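import Cfsg.Agent.Lib.Palfy68.Fixed
import Cfsg.Agent.Lib.Coprime.Generation
import Cfsg.Agent.Lib.PGroups.Omega

/-!
# The centraliser of a maximal normal cyclic subgroup of a normal `l`-subgroup

If all abelian normal subgroups of `K` are cyclic, `E` is a normal `l`-subgroup and `A` is maximal
among the abelian normal subgroups inside `E`, then `E ⊓ C(A)` has class at most two and exponent
`l` modulo `A`, with centre `A`.
-/

set_option autoImplicit false
set_option linter.unusedSectionVars false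

namespace Cfsg.Agent.Lib.Palfy68

open Subgroup
open scoped commutatorElement

universe u

variable {K : Type u} [Group K] [Finite K]

/-- The data. -/
structure MaxCyc (K : Type u) [Group K] (l : ℕ) (E A : Subgroup K) : Prop where
  prime : l.Prime
  normalE : E.Normal
  pgroup : IsPGroup l E
  normalA : A.Normal
  le : A ≤ E
  cyclic : IsCyclic A
  max : ∀ B : Subgroup K, B.Normal → A ≤ B → B ≤ E → (∀ a ∈ B, ∀ b ∈ B, a * b = b * a) → B = A

namespace MaxCyc

variable {l : ℕ} {E A : Subgroup K}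

/-- The centraliser of `A` in `E`. -/
def cent (E A : Subgroup K) : Subgroup K := E ⊓ centralizer (A : Set K)

theorem cent_normal (h : MaxCyc K l E A) : (cent E A).Normal := by
  have := h.normalE; have := h.normalA
  unfold cent
  infer_instance

theorem comm (h : MaxCyc K l E A) {a b : K} (ha : a ∈ A) (hb : b ∈ A) : a * b = b * a := by
  have := h.cyclic
  exact congrArg Subtype.val ((IsCyclic.isMulCommutative (α := A)).is_comm.comm ⟨a, ha⟩ ⟨b, hb⟩)

theorem le_cent (h : MaxCyc K l E A) : A ≤ cent E A :=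
  le_inf h.le fun a ha => mem_centralizer_iff.2 fun b hb => h.comm hb ha

theorem comm_cent {e a : K} (he : e ∈ cent E A) (ha : a ∈ A) : a * e = e * a :=
  mem_centralizer_iff.1 he.2 a ha

/-- Elements of the centraliser which are central and of exponent `l` modulo `A`. -/
def lay (h : MaxCyc K l E A) : Subgroup K where
  carrier := {e | e ∈ cent E A ∧ e ^ l ∈ A ∧ ∀ f ∈ cent E A, ⁅e, f⁆ ∈ A}
  one_mem' := ⟨one_mem _, by rw [one_pow]; exact one_mem _, fun f _ => by simp⟩
  mul_mem' := by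
    rintro a b ⟨ha, hal, hac⟩ ⟨hb, hbl, hbc⟩
    have := h.normalA
    let π := QuotientGroup.mk' A
    have hπ : ∀ {x y : K}, ⁅x, y⁆ ∈ A ↔ π x * π y = π y * π x := by
      intro x y
      rw [← commutatorElement_eq_one_iff_mul_comm, ← map_commutatorElement]
      exact (QuotientGroup.eq_one_iff _).symm
    refine ⟨mul_mem ha hb, ?_, fun f hf => ?_⟩
    · have hc : Commute (π a) (π b) := hπ.1 (hac b hb)
      refine (QuotientGroup.eq_one_iff _).1 ?_
      show π ((a * b) ^ l) = 1
      rw [map_pow, map_mul, hc.mul_pow, ← map_pow, ← map_pow, show π (a ^ l) = 1 from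
        (QuotientGroup.eq_one_iff _).2 hal, show π (b ^ l) = 1 from
        (QuotientGroup.eq_one_iff _).2 hbl, one_mul]
    · rw [hπ, map_mul]
      exact (Commute.mul_left (hπ.1 (hac f hf)) (hπ.1 (hbc f hf)) :)
  inv_mem' := by
    rintro a ⟨ha, hal, hac⟩
    have := h.normalA
    let π := QuotientGroup.mk' A
    have hπ : ∀ {x y : K}, ⁅x, y⁆ ∈ A ↔ π x * π y = π y * π x := by
      intro x y
      rw [← commutatorElement_eq_one_iff_mul_comm, ← map_commutatorElement]
      exact (QuotientGroup.eq_one_iff _).symm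
    refine ⟨inv_mem ha, by rw [inv_pow]; exact inv_mem hal, fun f hf => ?_⟩
    rw [hπ, map_inv]
    exact (Commute.inv_left (hπ.1 (hac f hf)) :)

theorem mem_lay (h : MaxCyc K l E A) {e : K} :
    e ∈ h.lay ↔ e ∈ cent E A ∧ e ^ l ∈ A ∧ ∀ f ∈ cent E A, ⁅e, f⁆ ∈ A := Iff.rfl

theorem lay_normal (h : MaxCyc K l E A) : h.lay.Normal := by
  refine ⟨fun e he g => ?_⟩
  obtain ⟨he1, he2, he3⟩ := h.mem_lay.1 he
  refine h.mem_lay.2 ⟨h.cent_normal.conj_mem e he1 g, ?_, fun f hf => ?_⟩
  · rw [conj_pow]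
    exact h.normalA.conj_mem _ he2 g
  · have h1 := h.normalA.conj_mem _ (he3 _ (h.cent_normal.conj_mem f hf g⁻¹)) g
    have h2 : g * ⁅e, g⁻¹ * f * g⁻¹⁻¹⁆ * g⁻¹ = ⁅g * e * g⁻¹, f⁆ := by
      simp only [commutatorElement_def]; group
    rwa [← h2]

theorem le_lay (h : MaxCyc K l E A) : A ≤ h.lay := fun a ha =>
  h.mem_lay.2 ⟨h.le_cent ha, pow_mem ha l, fun f hf => by
    rw [commutatorElement_eq_one_iff_mul_comm.2 (comm_cent hf ha)]
    exact one_mem _⟩

/-- The centre of the layer is `A`. -/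
theorem eq_of_center_lay (h : MaxCyc K l E A) {e : K} (he : e ∈ h.lay)
    (hc : ∀ f ∈ h.lay, f * e = e * f) : e ∈ A := by
  have := h.lay_normal
  have hZ : h.lay ⊓ centralizer (h.lay : Set K) = A := h.max _ inferInstance
    (le_inf h.le_lay fun a ha => mem_centralizer_iff.2 fun f hf =>
      (comm_cent ((h.mem_lay.1 hf).1) ha).symm)
    (inf_le_left.trans fun x hx => ((h.mem_lay.1 hx).1).1)
    fun a ha b hb => mem_centralizer_iff.1 hb.2 a ha.1
  exact hZ ▸ (⟨he, mem_centralizer_iff.2 hc⟩ : e ∈ h.lay ⊓ centralizer (h.lay : Set K))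

/-- Commutators of the layer with the centraliser have order dividing `l`. -/
theorem comm_pow (h : MaxCyc K l E A) {e f : K} (he : e ∈ h.lay) (hf : f ∈ cent E A) :
    ⁅e, f⁆ ∈ A ∧ ⁅e, f⁆ ^ l = 1 := by
  obtain ⟨he1, he2, he3⟩ := h.mem_lay.1 he
  refine ⟨he3 f hf, ?_⟩
  have hc : Commute ⁅e, f⁆ e := comm_cent he1 (he3 f hf)
  have key : ∀ n : ℕ, ⁅e ^ n, f⁆ = ⁅e, f⁆ ^ n := by
    intro n
    induction n with
    | zero => simp
    | succ m ih =>
      have hcm : e ^ m * ⁅e, f⁆ = ⁅e, f⁆ * e ^ m := (hc.pow_right m).eq.symm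
      calc ⁅e ^ (m + 1), f⁆ = e ^ m * ⁅e, f⁆ * (e ^ m)⁻¹ * ⁅e ^ m, f⁆ := by
            rw [pow_succ]; simp only [commutatorElement_def]; group
        _ = ⁅e, f⁆ * ⁅e ^ m, f⁆ := by rw [hcm]; group
        _ = ⁅e, f⁆ ^ (m + 1) := by rw [ih, pow_succ']
  rw [← key, commutatorElement_eq_one_iff_mul_comm]
  exact comm_cent hf he2

theorem card_torsion_le (h : MaxCyc K l E A) : Nat.card {a : A // a ^ l = 1} ≤ l := by
  classical
  have := h.cyclic
  have := Fintype.ofFinite A
  rw [Nat.card_eq_fintype_card, Fintype.card_subtype]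
  exact IsCyclic.card_pow_eq_one_le h.prime.pos

/-- Each element of exponent `l` modulo `A` cuts a centraliser by at most `l`. -/
theorem card_le_mul (h : MaxCyc K l E A) {C : Subgroup K} (hC : C ≤ cent E A) {x : K}
    (hx : x ∈ cent E A) (hval : ∀ c ∈ C, ⁅c, x⁆ ∈ A ∧ ⁅c, x⁆ ^ l = 1) :
    Nat.card C ≤ Nat.card ↥(C ⊓ centralizer ({x} : Set K)) * l := by
  let T : Subgroup A :=
    { carrier := {a | a ^ l = 1}
      one_mem' := one_pow _
      mul_mem' := fun {a b} ha hb => by
        show (a * b) ^ l = 1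
        rw [(show Commute a b from Subtype.ext (h.comm a.2 b.2)).mul_pow, ha, hb, one_mul]
      inv_mem' := fun {a} ha => by show a⁻¹ ^ l = 1; rw [inv_pow, ha, inv_one] }
  let φ : C →* T := MonoidHom.mk' (fun c => ⟨⟨⁅(c : K), x⁆, (hval c c.2).1⟩,
    Subtype.ext (hval c c.2).2⟩) fun a b => by
      ext
      show ⁅(a : K) * b, x⁆ = ⁅(a : K), x⁆ * ⁅(b : K), x⁆
      have h1 : (a : K) * ⁅(b : K), x⁆ = ⁅(b : K), x⁆ * a :=
        (comm_cent (hC a.2) (hval b b.2).1).symm
      have h2 : ⁅(a : K), x⁆ * ⁅(b : K), x⁆ = ⁅(b : K), x⁆ * ⁅(a : K), x⁆ :=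
        h.comm (hval a a.2).1 (hval b b.2).1
      rw [h2]
      calc ⁅(a : K) * b, x⁆ = (a : K) * ⁅(b : K), x⁆ * x * (a : K)⁻¹ * x⁻¹ := by
            simp only [commutatorElement_def]; group
        _ = ⁅(b : K), x⁆ * ⁅(a : K), x⁆ := by rw [h1]; simp only [commutatorElement_def]; group
  have hker : Nat.card φ.ker ≤ Nat.card ↥(C ⊓ centralizer ({x} : Set K)) := by
    refine Nat.card_le_card_of_injective
      (fun c => ⟨(c : K), c.1.2, mem_centralizer_singleton_iff.2 ?_⟩) fun a b hab => ?_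
    · have := congrArg (fun t : T => ((t : A) : K)) (c.2 : φ c.1 = 1)
      exact commutatorElement_eq_one_iff_mul_comm.1 this
    · exact Subtype.ext (Subtype.ext (congrArg (fun t : ↥(C ⊓ centralizer ({x} : Set K)) => (t : K)) hab))
  have hT : Nat.card T ≤ l := h.card_torsion_le
  rw [← φ.ker.card_mul_index, Subgroup.index_ker]
  exact Nat.mul_le_mul hker ((Subgroup.card_le_card_group _).trans hT)

/-- Growing bound: a subgroup of the layer over `A` cuts `C` by at most its index over `A`. -/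
theorem card_mul_le (h : MaxCyc K l E A) {C : Subgroup K} (hC : C ≤ cent E A) {X : Subgroup K}
    (hAX : A ≤ X) (hX : X ≤ cent E A) (hpow : ∀ x ∈ X, x ^ l ∈ A)
    (hval : ∀ c ∈ C, ∀ x ∈ X, ⁅c, x⁆ ∈ A ∧ ⁅c, x⁆ ^ l = 1) :
    Nat.card C * Nat.card A ≤ Nat.card ↥(C ⊓ centralizer (X : Set K)) * Nat.card X := by
  classical
  set S : Set (Subgroup K) := {Y | A ≤ Y ∧ Y ≤ X ∧
    Nat.card C * Nat.card A ≤ Nat.card ↥(C ⊓ centralizer (Y : Set K)) * Nat.card Y} with hS
  have hA : A ∈ S := by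
    refine ⟨le_rfl, hAX, le_of_eq ?_⟩
    rw [inf_eq_left.2 fun c hc => mem_centralizer_iff.2 fun a ha => comm_cent (hC hc) ha]
  obtain ⟨Y, ⟨hAY, hYX, hY⟩, hmax⟩ := (Set.toFinite S).exists_maximal ⟨A, hA⟩
  rcases eq_or_lt_of_le hYX with rfl | hlt
  · exact hY
  exfalso
  obtain ⟨x, hxX, hxY⟩ := SetLike.exists_of_lt hlt
  set Z := Y ⊔ zpowers x with hZ
  have hcard : Nat.card Y * l ≤ Nat.card Z := by
    have hdiv : Nat.card Y ∣ Nat.card Z := card_dvd_of_le le_sup_left
    obtain ⟨d, hd⟩ := hdiv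
    rw [hd]
    refine Nat.mul_le_mul_left _ ?_
    have hZE : IsPGroup l Z := h.pgroup.to_le
      ((sup_le hYX (zpowers_le.2 hxX)).trans (hX.trans inf_le_left))
    haveI := Fact.mk h.prime
    obtain ⟨n, hn⟩ := IsPGroup.iff_card.1 hZE
    have hdd : d ∣ l ^ n := hn ▸ hd ▸ dvd_mul_left d _
    obtain ⟨j, -, rfl⟩ := (Nat.dvd_prime_pow h.prime).1 hdd
    rcases Nat.eq_zero_or_pos j with rfl | hj
    · rw [pow_zero, mul_one] at hd
      have := Subgroup.eq_of_le_of_card_ge (le_sup_left : Y ≤ Z) hd.le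
      exact absurd ((this.symm ▸ le_sup_right : zpowers x ≤ Y) (mem_zpowers x)) hxY
    · exact Nat.le_self_pow hj.ne' l
  have hcut : Nat.card ↥(C ⊓ centralizer (Y : Set K)) ≤
      Nat.card ↥(C ⊓ centralizer (Z : Set K)) * l := by
    refine (h.card_le_mul (inf_le_left.trans hC) (hX hxX)
      fun c hc => hval c hc.1 x hxX).trans (Nat.mul_le_mul_right l ?_)
    refine Subgroup.card_le_of_le fun c hc => ⟨hc.1.1, mem_centralizer_iff.2 fun z hz => ?_⟩
    have hle : Z ≤ centralizer ({c} : Set K) :=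
      sup_le (fun y hy => mem_centralizer_singleton_iff.2 (mem_centralizer_iff.1 hc.1.2 y hy))
        (zpowers_le.2 (mem_centralizer_singleton_iff.2 (mem_centralizer_singleton_iff.1 hc.2).symm))
    exact mem_centralizer_singleton_iff.1 (hle hz)
  have hZS : Z ∈ S := by
    refine ⟨hAY.trans le_sup_left, sup_le hYX (zpowers_le.2 hxX), hY.trans ?_⟩
    calc _ ≤ Nat.card ↥(C ⊓ centralizer (Z : Set K)) * l * Nat.card Y :=
          Nat.mul_le_mul_right _ hcut
      _ = Nat.card ↥(C ⊓ centralizer (Z : Set K)) * (Nat.card Y * l) := by ring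
      _ ≤ _ := Nat.mul_le_mul_left _ hcard
  exact hxY (hmax hZS le_sup_left ((le_sup_right : zpowers x ≤ Z) (mem_zpowers x)))

/-- The centraliser is the layer. -/
theorem cent_eq (h : MaxCyc K l E A) : cent E A = h.lay := by
  have hle : h.lay ≤ cent E A := fun e he => (h.mem_lay.1 he).1
  refine le_antisymm ?_ hle
  have hC : cent E A ⊓ centralizer (h.lay : Set K) = A := by
    refine le_antisymm ?_ (le_inf h.le_cent fun a ha => mem_centralizer_iff.2 fun e he =>
      (comm_cent (hle he) ha).symm)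
    by_contra hne
    haveI := Fact.mk h.prime
    haveI := h.cent_normal
    haveI := h.lay_normal
    haveI := h.normalA
    let π := QuotientGroup.mk' A
    let Q := (cent E A).map π
    let D := (cent E A ⊓ centralizer (h.lay : Set K)).map π
    have hQ : IsPGroup l Q := (h.pgroup.to_le inf_le_left).map π
    have hD : D ≤ Q := map_mono inf_le_left
    have hDne : D.subgroupOf Q ≠ ⊥ := by
      intro h0
      rw [subgroupOf_eq_bot, disjoint_iff, inf_eq_left.2 hD, Subgroup.map_eq_bot_iff,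
        QuotientGroup.ker_mk'] at h0
      exact hne h0
    haveI : (D.subgroupOf Q).Normal := by
      haveI : D.Normal := Normal.map inferInstance π (QuotientGroup.mk'_surjective A)
      infer_instance
    have hnt := PGroups.normal_inf_center_ne_bot hQ (D.subgroupOf Q) hDne
    obtain ⟨q, ⟨hqD, hqZ⟩, hq1⟩ := exists_mem_ne hnt
    obtain ⟨i, hi⟩ := hQ q
    classical
    have hex : ∃ m, q ^ l ^ m = 1 := ⟨i, hi⟩
    set m := Nat.find hex with hm
    have hm0 : m ≠ 0 := fun h0 => hq1 (by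
      have := Nat.find_spec hex
      rwa [← hm, h0, pow_zero, pow_one] at this)
    set r := q ^ l ^ (m - 1) with hr
    have hr1 : r ≠ 1 := Nat.find_min hex (by omega : m - 1 < m)
    have hrl : r ^ l = 1 := by
      rw [hr, ← pow_mul, ← pow_succ, show m - 1 + 1 = m by omega]
      exact Nat.find_spec hex
    obtain ⟨e, he, heq⟩ : ∃ e ∈ cent E A ⊓ centralizer (h.lay : Set K), π e = (r : K ⧸ A) :=
      mem_map.1 (show (r : K ⧸ A) ∈ D from pow_mem hqD _)
    have heL : e ∈ h.lay := by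
      refine h.mem_lay.2 ⟨he.1, ?_, fun f hf => ?_⟩
      · refine (QuotientGroup.eq_one_iff _).1 ?_
        show π (e ^ l) = 1
        rw [map_pow, heq, ← SubmonoidClass.coe_pow, hrl, OneMemClass.coe_one]
      · refine (QuotientGroup.eq_one_iff _).1 ?_
        show π ⁅e, f⁆ = 1
        rw [map_commutatorElement, commutatorElement_eq_one_iff_mul_comm, heq]
        exact (congrArg Subtype.val (mem_center_iff.1 (pow_mem hqZ (l ^ (m - 1)))
          ⟨π f, mem_map_of_mem π hf⟩)).symm
    have heA := h.eq_of_center_lay heL fun f hf => mem_centralizer_iff.1 he.2 f hf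
    exact hr1 (Subtype.ext (heq.symm.trans ((QuotientGroup.eq_one_iff _).2 heA)))
  have hb := h.card_mul_le (C := cent E A) le_rfl h.le_lay hle
    (fun x hx => (h.mem_lay.1 hx).2.1)
    (fun c hc x hx => by
      obtain ⟨h1, h2⟩ := h.comm_pow hx hc
      rw [← commutatorElement_inv]
      exact ⟨inv_mem h1, by rw [inv_pow, h2, inv_one]⟩)
  rw [hC, mul_comm (Nat.card A)] at hb
  exact (Subgroup.eq_of_le_of_card_ge hle (Nat.le_of_mul_le_mul_right hb Nat.card_pos)).ge

theorem pow_mem_A (h : MaxCyc K l E A) {e : K} (he : e ∈ cent E A) : e ^ l ∈ A :=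
  (h.mem_lay.1 (h.cent_eq ▸ he)).2.1

theorem comm_mem (h : MaxCyc K l E A) {e f : K} (he : e ∈ cent E A) (hf : f ∈ cent E A) :
    ⁅e, f⁆ ∈ A ∧ ⁅e, f⁆ ^ l = 1 :=
  h.comm_pow (h.cent_eq ▸ he) hf

theorem center_cent (h : MaxCyc K l E A) {e : K} (he : e ∈ cent E A)
    (hc : ∀ f ∈ cent E A, f * e = e * f) : e ∈ A :=
  h.eq_of_center_lay (h.cent_eq ▸ he) fun f hf => hc f (h.mem_lay.1 hf).1

theorem centralizer_eq_bot_index (h : MaxCyc K l E A) {X : Subgroup K} (hAX : A ≤ X)
    (hX : X ≤ cent E A) (hc : cent E A ⊓ centralizer (X : Set K) = A) : X = cent E A := by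
  have hb := h.card_mul_le (C := cent E A) le_rfl hAX hX
    (fun x hx => h.pow_mem_A (hX hx)) (fun c hc x hx => h.comm_mem hc (hX hx))
  rw [hc, mul_comm (Nat.card A)] at hb
  exact Subgroup.eq_of_le_of_card_ge hX (Nat.le_of_mul_le_mul_right hb Nat.card_pos)

/-- `(xy)^n = x^n y^n c^C(n,2)` with `c = [y, x]`. -/
theorem pow_formula (h : MaxCyc K l E A) {x y : K} (hx : x ∈ cent E A) (hy : y ∈ cent E A)
    (n : ℕ) : (x * y) ^ n = x ^ n * y ^ n * ⁅y, x⁆ ^ n.choose 2 := by
  obtain ⟨hcA, -⟩ := h.comm_mem hy hx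
  set c := ⁅y, x⁆ with hc
  have hcx : Commute c x := comm_cent hx hcA
  have hcy : Commute c y := comm_cent hy hcA
  have hyn : ∀ m : ℕ, y ^ m * x = x * y ^ m * c ^ m := by
    intro m
    induction m with
    | zero => simp
    | succ m ih =>
      have hyx : y * x = x * y * c := by
        have : y * x = c * (x * y) := by rw [hc, commutatorElement_def]; group
        rw [this]
        exact (hcx.mul_right hcy).eq
      calc y ^ (m + 1) * x = y ^ m * (y * x) := by rw [pow_succ, mul_assoc]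
        _ = y ^ m * x * (y * c) := by rw [hyx]; group
        _ = x * y ^ m * (c ^ m * y) * c := by rw [ih]; group
        _ = x * y ^ m * (y * c ^ m) * c := by rw [(hcy.pow_left m).eq]
        _ = x * y ^ (m + 1) * c ^ (m + 1) := by rw [pow_succ, pow_succ]; group
  induction n with
  | zero => simp
  | succ m ih =>
    have hch : (m + 1).choose 2 = m + m.choose 2 := by
      rw [Nat.choose_succ_succ', Nat.choose_one_right]
    rw [pow_succ, ih, hch]
    set j := m.choose 2
    calc x ^ m * y ^ m * c ^ j * (x * y) = x ^ m * y ^ m * ((c ^ j * x) * y) := by group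
      _ = x ^ m * (y ^ m * x) * (c ^ j * y) := by rw [(hcx.pow_left j).eq]; group
      _ = x ^ (m + 1) * y ^ m * c ^ m * (y * c ^ j) := by rw [hyn, (hcy.pow_left j).eq, pow_succ]; group
      _ = x ^ (m + 1) * y ^ m * (c ^ m * y) * c ^ j := by group
      _ = x ^ (m + 1) * y ^ (m + 1) * c ^ (m + j) := by
        rw [(hcy.pow_left m).eq, pow_succ y, pow_add]; group

end MaxCyc

end Cfsg.Agent.Lib.Palfy68
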