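import Cfsg.Agent.Lib.Palfy68.LTrick
import Cfsg.Agent.Lib.Cores.Basic

/-!
# No two primes with a Sylow subgroup at every point

`K` solvable, faithful and irreducible on an elementary abelian group; for two primes `y`, `z`
every nontrivial point has stabiliser with normal Sylow subgroups of `K`, and no normal cyclic
subgroup has centraliser of index divisible by `y z`.  Then `y` or `z` does not divide `|K|`.
-/

set_option autoImplicit false
set_option linter.unusedSectionVars false

namespace Cfsg.Agent.Lib.Palfy68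

open Subgroup MulAction
open scoped commutatorElement

universe u v

variable {K : Type u} [Group K] [Finite K] {V : Type v} [CommGroup V] [Finite V]
  [MulDistribMulAction K V]

theorem sylow_le_iff {y : ℕ} [Fact y.Prime] (C : Subgroup K) [C.Normal] (P : Sylow y K) :
    (P : Subgroup K) ≤ C ↔ ¬ y ∣ C.index := by
  refine ⟨fun h hd => P.not_dvd_index (hd.trans (Subgroup.index_dvd_of_le h)), fun hd x hx => ?_⟩
  obtain ⟨n, hn⟩ := P.2 ⟨x, hx⟩
  have h1 : ((x : K ⧸ C)) ^ y ^ n = 1 := by
    rw [← QuotientGroup.mk_pow, show x ^ y ^ n = 1 from congrArg Subtype.val hn]; rfl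
  have h2 : orderOf (x : K ⧸ C) ∣ C.index := by
    rw [Subgroup.index_eq_card]; exact orderOf_dvd_natCard _
  have hc : Nat.Coprime (y ^ n) C.index :=
    Nat.Coprime.pow_left n ((Nat.Prime.coprime_iff_not_dvd Fact.out).2 hd)
  exact (QuotientGroup.eq_one_iff x).1 (orderOf_eq_one_iff.1
    (Nat.eq_one_of_dvd_coprimes hc (orderOf_dvd_iff_pow_eq_one.2 h1) h2))

section trick

variable {s : ℕ} [Fact s.Prime]

/-- If `r` is an involutory automorphism and `f` anticommutes with it, some nontrivial point has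
all its fixers fixing `u` and `a u` for a nontrivial `u`. -/
theorem exists_point (hs2 : s ≠ 2) (hVs : ∀ v : V, v ^ s = 1) [Nontrivial V] (r : V →* V)
    (hr : ∀ v, r (r v) = v) (f a : K) (hfr : ∀ v, r (f • v) = (f • r v)⁻¹)
    (har : ∀ v, r (a • v) = a • r v) :
    ∃ v : V, v ≠ 1 ∧ ∀ k : K, (∀ x, r (k • x) = k • r x) → k * f = f * k → k • v = v →
      ∃ u : V, u ≠ 1 ∧ k • u = u ∧ k • (a • u) = a • u := by
  have hsq : ∀ x : V, x ^ 2 = 1 → x = 1 := fun x hx => orderOf_eq_one_iff.1
    (Nat.eq_one_of_dvd_coprimes ((Nat.coprime_primes Nat.prime_two Fact.out).2 (Ne.symm hs2))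
      (orderOf_dvd_iff_pow_eq_one.2 hx) (orderOf_dvd_iff_pow_eq_one.2 (hVs x)))
  have hinj : ∀ x y : V, x ^ 2 = y ^ 2 → x = y := fun x y hxy => by
    rw [← div_eq_one]
    exact hsq _ (by rw [div_pow, hxy, div_self'])
  obtain ⟨w, hw, hw1⟩ : ∃ w : V, r w = w ∧ w ≠ 1 := by
    by_contra hcon
    push Not at hcon
    have hneg : ∀ x, r x = x⁻¹ := fun x => by
      have := hcon (x * r x) (by rw [map_mul, hr, mul_comm])
      exact eq_inv_of_mul_eq_one_right this
    obtain ⟨x, hx⟩ := exists_ne (1 : V)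
    refine hx (smul_left_cancel f ?_)
    rw [smul_one]
    apply hsq
    have h1 := hfr x
    rw [hneg, hneg, smul_inv', inv_inv] at h1
    rw [pow_two]
    nth_rewrite 1 [← h1]
    exact inv_mul_cancel _
  set u := f • w with hu
  have hru : r u = u⁻¹ := by rw [hu, hfr, hw]
  have hrau : r (a • u) = (a • u)⁻¹ := by rw [har, hru, smul_inv']
  have hu1 : u ≠ 1 := fun e => hw1 (smul_left_cancel f (by rw [← hu, e, smul_one]))
  refine ⟨w * (a • u), fun e => hw1 ?_, fun k hk hkf hfix => ⟨u, hu1, ?_⟩⟩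
  · have e2 := congrArg r e
    rw [map_mul, map_one, hw, hrau, mul_inv_eq_one] at e2
    apply hsq
    rw [pow_two]
    nth_rewrite 2 [e2]
    exact e
  · have hfix' : k • (w * (a • u)⁻¹) = w * (a • u)⁻¹ := by
      have := congrArg r hfix
      rw [hk, map_mul, hw, hrau] at this
      exact this
    rw [smul_mul'] at hfix hfix'
    rw [smul_inv'] at hfix'
    have hkw : k • w = w := hinj _ _ (by
      have := congrArg₂ (· * ·) hfix hfix'
      simp only [mul_mul_mul_comm, mul_inv_cancel, mul_one] at this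
      rwa [pow_two, pow_two])
    refine ⟨?_, ?_⟩
    · rw [hu, ← mul_smul, hkf, mul_smul, hkw]
    · rw [hkw] at hfix
      exact mul_left_cancel hfix

end trick

section main

variable {s : ℕ} [Fact s.Prime]

/-- A Sylow subgroup centralising all cores is trivial. -/
theorem not_all_centralised [Group.IsSolvable K] {w : ℕ} [Fact w.Prime] [Nontrivial V]
    (hirr : Irred K V) (hf : ∀ k : K, (∀ v : V, k • v = v) → k = 1) (hone : OnePoint K V w)
    (hwK : w ∣ Nat.card K)
    (hall : ∀ l : ℕ, l.Prime → l ≠ w → ∀ P : Sylow w K,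
      (P : Subgroup K) ≤ centralizer (Cfsg.pCore l K : Set K)) : False := by
  obtain ⟨P⟩ : Nonempty (Sylow w K) := inferInstance
  have hPF : (P : Subgroup K) ≤ centralizer (Cfsg.fittingSubgroup K : Set K) := by
    rw [Cores.fittingSubgroup_eq_iSup_pCore]
    intro x hx
    have hle : (⨆ p : Nat.Primes, Cfsg.pCore (p : ℕ) K) ≤ centralizer ({x} : Set K) := by
      refine iSup_le fun p z hz => mem_centralizer_singleton_iff.2 ?_
      by_cases hp : (p : ℕ) = w
      · have h1 : Cfsg.pCore (p : ℕ) K = ⊥ := by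
          refine eq_bot_of_pGroup (y := w) hirr hf hone inferInstance ?_
          rw [hp]
          exact Cores.pCore_isPGroup w
        rw [h1, Subgroup.mem_bot] at hz
        rw [hz, one_mul, mul_one]
      · exact mem_centralizer_iff.1 (hall p p.2 hp P hx) z hz
    exact mem_centralizer_iff.2 fun z hz => mem_centralizer_singleton_iff.1 (hle hz)
  have hPle : (P : Subgroup K) ≤ Cfsg.fittingSubgroup K :=
    hPF.trans Cores.centralizer_fittingSubgroup_le
  haveI hnil : Group.IsNilpotent (Cfsg.fittingSubgroup K) := Cores.fittingSubgroup_isNilpotent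
  let Q : Sylow w (Cfsg.fittingSubgroup K) := P.subtype hPle
  haveI : (Q : Subgroup ↥(Cfsg.fittingSubgroup K)).Characteristic :=
    Q.characteristic_of_normal (Q.normal_of_normalizerCondition Group.normalizerCondition_of_isNilpotent)
  haveI : (Cfsg.fittingSubgroup K).Normal := by
    rw [Cores.fittingSubgroup_eq_iSup_pCore]
    infer_instance
  have hPn : ((Q : Subgroup ↥(Cfsg.fittingSubgroup K)).map (Cfsg.fittingSubgroup K).subtype).Normal := inferInstance
  have hmap : (Q : Subgroup ↥(Cfsg.fittingSubgroup K)).map (Cfsg.fittingSubgroup K).subtype = (P : Subgroup K) := by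
    rw [Sylow.coe_subtype, Subgroup.subgroupOf_map_subtype, inf_eq_left.2 hPle]
  rw [hmap] at hPn
  exact P.ne_bot_of_dvd_card hwK (eq_bot_of_pGroup hirr hf hone hPn P.2)

/-- The asymmetric case. -/
theorem core_aux [Group.IsSolvable K] [Nontrivial V] (hVs : ∀ v : V, v ^ s = 1)
    (hirr : Irred K V) (hf : ∀ k : K, (∀ v : V, k • v = v) → k = 1) {y z : ℕ} [Fact y.Prime]
    [Fact z.Prime] (hyz : y ≠ z) (hy : OnePoint K V y) (hz : OnePoint K V z)
    (hyK : y ∣ Nat.card K) (hzK : z ∣ Nat.card K) (A : ℕ → Subgroup K)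
    (hA : ∀ l, l.Prime → MaxCyc K l (Cfsg.pCore l K) (A l))
    (hzA : ∀ l, l.Prime → ∀ P : Sylow z K, (P : Subgroup K) ≤ centralizer (A l : Set K)) :
    False := by
  have hVp : IsPGroup s V := fun v => ⟨1, by rw [pow_one]; exact hVs v⟩
  have hbot : ∀ {w : ℕ} [Fact w.Prime], OnePoint K V w → Cfsg.pCore w K = ⊥ :=
    fun {w} _ hone => eq_bot_of_pGroup hirr hf hone inferInstance (Cores.pCore_isPGroup w)
  -- some core is not centralised by `z`
  obtain ⟨l, hl, hlz, P₀, hP₀⟩ : ∃ l : ℕ, l.Prime ∧ l ≠ z ∧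
      ∃ P : Sylow z K, ¬ (P : Subgroup K) ≤ centralizer (Cfsg.pCore l K : Set K) := by
    by_contra hcon
    push Not at hcon
    exact not_all_centralised hirr hf hz hzK fun l hl hlz => hcon l hl hlz
  obtain ⟨rfl, hA2, rfl⟩ : l = 2 ∧ Nat.card (A l) ≤ 2 ∧ z = 3 := by
    by_contra hexc
    exact hP₀ (centralises (hA l hl) hirr hf hVp (Ne.symm hlz) hz (hzA l hl) hexc P₀)
  have hy2 : y ≠ 2 := by
    rintro rfl
    apply hP₀
    rw [hbot hy]
    intro x _
    exact mem_centralizer_iff.2 fun e he => by rw [Subgroup.mem_bot.1 he, one_mul, mul_one]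
  have h2 := hA 2 hl
  -- elements of `A 2` are central
  have hAc : ∀ e ∈ A 2, ∀ g : K, g * e = e * g := by
    intro e he g
    by_cases he1 : e = 1
    · rw [he1, mul_one, one_mul]
    have hconj : g * e * g⁻¹ = e := by
      by_contra hne
      have hne1 : g * e * g⁻¹ ≠ 1 := fun h => he1 (by simpa using h)
      classical
      have := Fintype.ofFinite (A 2)
      have h3 : ({⟨1, one_mem _⟩, ⟨e, he⟩, ⟨g * e * g⁻¹, h2.normalA.conj_mem e he g⟩} :
          Finset (A 2)).card = 3 := by
        rw [Finset.card_insert_of_notMem, Finset.card_pair] <;>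
          simp [Subtype.ext_iff, he1, hne, Ne.symm he1, Ne.symm hne, Ne.symm hne1]
      have := Finset.card_le_univ
        ({⟨1, one_mem _⟩, ⟨e, he⟩, ⟨g * e * g⁻¹, h2.normalA.conj_mem e he g⟩} : Finset (A 2))
      rw [← Nat.card_eq_fintype_card] at this
      omega
    calc g * e = g * e * g⁻¹ * g := by group
      _ = e * g := by rw [hconj]
  have hPA2 : ∀ {w : ℕ} (P : Sylow w K), (P : Subgroup K) ≤ centralizer (A 2 : Set K) :=
    fun P x _ => mem_centralizer_iff.2 fun e he => (hAc e he x).symm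
  have hyE : ∀ P : Sylow y K, (P : Subgroup K) ≤ centralizer (Cfsg.pCore 2 K : Set K) :=
    centralises h2 hirr hf hVp hy2 hy hPA2 (fun h => hyz h.2.2)
  -- `y` moves some cyclic part
  obtain ⟨m, hm, hmoves⟩ : ∃ m : ℕ, m.Prime ∧
      ∀ P : Sylow y K, ¬ (P : Subgroup K) ≤ centralizer (A m : Set K) := by
    by_contra hcon
    push Not at hcon
    refine not_all_centralised hirr hf hy hyK fun m hm hmy P => ?_
    refine centralises (hA m hm) hirr hf hVp (Ne.symm hmy) hy (fun P' => ?_)
      (fun h => hyz h.2.2) P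
    obtain ⟨P₁, hP₁⟩ := hcon m hm
    haveI := (hA m hm).normalA
    exact (sylow_le_iff _ P').2 ((sylow_le_iff _ P₁).1 hP₁)
  have hm2 : m ≠ 2 := by rintro rfl; exact hmoves default (hPA2 _)
  -- two noncommuting elements of the `2`-core
  have hcent : MaxCyc.cent (Cfsg.pCore 2 K) (A 2) = Cfsg.pCore 2 K :=
    inf_eq_left.2 fun x _ => mem_centralizer_iff.2 fun e he => (hAc e he x).symm
  obtain ⟨i, hi, j, hj, hij⟩ : ∃ i ∈ Cfsg.pCore 2 K, ∃ j ∈ Cfsg.pCore 2 K, i * j ≠ j * i := by
    by_contra hcon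
    push Not at hcon
    apply hP₀
    rw [h2.max _ inferInstance h2.le le_rfl hcon]
    exact hPA2 P₀
  have hi' : i ∈ MaxCyc.cent (Cfsg.pCore 2 K) (A 2) := hcent.symm ▸ hi
  have hj' : j ∈ MaxCyc.cent (Cfsg.pCore 2 K) (A 2) := hcent.symm ▸ hj
  set e₀ := ⁅j, i⁆ with he₀def
  have he₀ : e₀ ∈ A 2 ∧ e₀ ^ 2 = 1 := h2.comm_mem hj' hi'
  have he₀1 : e₀ ≠ 1 := fun h => hij (commutatorElement_eq_one_iff_mul_comm.1 h).symm
  have honly : ∀ e ∈ A 2, e = 1 ∨ e = e₀ := by
    intro e he
    by_contra hcon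
    push Not at hcon
    classical
    have := Fintype.ofFinite (A 2)
    have h3 : ({⟨1, one_mem _⟩, ⟨e, he⟩, ⟨e₀, he₀.1⟩} : Finset (A 2)).card = 3 := by
      rw [Finset.card_insert_of_notMem, Finset.card_pair] <;>
        simp [Subtype.ext_iff, hcon.1, hcon.2, Ne.symm hcon.1, Ne.symm he₀1]
    have := Finset.card_le_univ ({⟨1, one_mem _⟩, ⟨e, he⟩, ⟨e₀, he₀.1⟩} : Finset (A 2))
    rw [← Nat.card_eq_fintype_card] at this
    omega
  -- fixed points of nontrivial elements of the cyclic parts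
  have hfpf : ∀ {l : ℕ} (a : K), l.Prime → a ∈ A l → ∀ x : V, x ≠ 1 → a • x = x → a = 1 := by
    intro l a hl' ha x hx hax
    haveI := (hA l hl').normalA
    haveI := (hA l hl').cyclic
    haveI : (zpowers a).Normal := by
      have h1 : zpowers a = (zpowers (⟨a, ha⟩ : A l)).map (A l).subtype := by
        rw [MonoidHom.map_zpowers]; rfl
      haveI : (zpowers (⟨a, ha⟩ : A l)).Characteristic := Subgroup.characteristic_iff_map_eq.2
        fun φ => Subgroup.eq_of_le_of_card_ge (by
          rw [MonoidHom.map_zpowers, zpowers_le]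
          obtain ⟨n, hn⟩ := MonoidHom.map_cyclic φ.toMonoidHom
          exact mem_zpowers_iff.2 ⟨n, (hn _).symm⟩)
          (le_of_eq (Subgroup.card_map_of_injective φ.injective).symm)
      rw [h1]
      infer_instance
    have hb : fixSub (V := V) (zpowers a) ≠ ⊥ := fun hb => hx (by
      have : x ∈ fixSub (zpowers a) := fun b hb => by
        obtain ⟨n, rfl⟩ := mem_zpowers_iff.1 hb
        exact (show a ^ n ∈ stabilizer K x from zpow_mem hax n)
      rwa [hb, Subgroup.mem_bot] at this)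
    exact zpowers_eq_bot.1 (eq_bot_of_fixSub_ne_bot hirr hf inferInstance hb)
  -- the involution inverts
  have hinv : ∀ x : V, e₀ • x = x⁻¹ := by
    intro x
    have hfx : e₀ • (x * e₀ • x) = x * e₀ • x := by
      rw [smul_mul', ← mul_smul, ← pow_two, he₀.2, one_smul, mul_comm]
    by_contra hne
    exact he₀1 (hfpf e₀ hl he₀.1 _ (fun h => hne (eq_inv_of_mul_eq_one_right h)) hfx)
  have hs2 : s ≠ 2 := by
    intro e
    apply he₀1
    refine hf e₀ fun x => ?_
    rw [hinv, inv_eq_iff_mul_eq_one, ← pow_two, ← e]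
    exact hVs x
  haveI := (hA m hm).cyclic
  haveI := (hA m hm).normalA
  obtain ⟨γ, hγ⟩ := IsCyclic.exists_generator (α := A m)
  set a : K := (γ : K) with hadef
  have hmovea : ∀ P : Sylow y K, ∃ k ∈ (P : Subgroup K), k * a ≠ a * k := by
    intro P
    by_contra hcon
    push Not at hcon
    refine hmoves P fun k hk => mem_centralizer_iff.2 fun b hb => ?_
    obtain ⟨n, hn⟩ := mem_zpowers_iff.1 (hγ ⟨b, hb⟩)
    have e : b = a ^ n := by rw [hadef, ← SubgroupClass.coe_zpow, hn]
    rw [e]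
    exact (Commute.zpow_right (hcon k hk) n).eq.symm
  have hdis : Disjoint (A m) (Cfsg.pCore 2 K) := by
    haveI := Fact.mk hm
    refine IsPGroup.disjoint_of_ne m 2 hm2 _ _ ((hA m hm).pgroup.to_le (hA m hm).le) ?_
    exact Cores.pCore_isPGroup 2
  have haE : ∀ e ∈ Cfsg.pCore 2 K, a * e = e * a := fun e he =>
    (Subgroup.commute_of_normal_of_disjoint (A m) (Cfsg.pCore 2 K) inferInstance inferInstance
      hdis a e γ.2 he).eq
  -- powers of `e₀`
  have hji : ∀ x : V, j • i • x = (i • j • x)⁻¹ := by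
    intro x
    rw [← mul_smul, ← mul_smul, show j * i = e₀ * (i * j) by rw [he₀def, commutatorElement_def]; group,
      mul_smul, hinv]
  have hsqval : ∀ e : K, e ∈ MaxCyc.cent (Cfsg.pCore 2 K) (A 2) →
      (∀ x : V, e • e • x = x) ∨ (∀ x : V, e • e • x = x⁻¹) := by
    intro e he
    rcases honly (e ^ 2) (h2.pow_mem_A he) with h | h
    · exact Or.inl fun x => by rw [← mul_smul, ← pow_two, h, one_smul]
    · exact Or.inr fun x => by rw [← mul_smul, ← pow_two, h, hinv]
  -- an involutory combination with an anticommuting element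
  obtain ⟨r, hr, f, hf', hfr, har, hkr⟩ : ∃ r : V →* V, (∀ x, r (r x) = x) ∧
      ∃ f ∈ Cfsg.pCore 2 K, (∀ x, r (f • x) = (f • r x)⁻¹) ∧ (∀ x, r (a • x) = a • r x) ∧
        ∀ k : K, k * i = i * k → k * j = j * k → ∀ x, r (k • x) = k • r x := by
    rcases hsqval i hi' with hii | hii
    · refine ⟨MulDistribMulAction.toMonoidHom V i, hii, j, hj, fun x => ?_, fun x => ?_,
        fun k hki _ x => ?_⟩
      · show i • j • x = (j • i • x)⁻¹
        rw [hji, inv_inv]
      · show i • a • x = a • i • x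
        rw [← mul_smul, ← mul_smul, haE i hi]
      · show i • k • x = k • i • x
        rw [← mul_smul, ← mul_smul, hki]
    rcases hsqval j hj' with hjj | hjj
    · refine ⟨MulDistribMulAction.toMonoidHom V j, hjj, i, hi, fun x => ?_, fun x => ?_,
        fun k _ hkj x => ?_⟩
      · show j • i • x = (i • j • x)⁻¹
        exact hji x
      · show j • a • x = a • j • x
        rw [← mul_smul, ← mul_smul, haE j hj]
      · show j • k • x = k • j • x
        rw [← mul_smul, ← mul_smul, hkj]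
    obtain ⟨α, β, hαβ⟩ := ZMod.sq_add_sq s (-1)
    have hpow : ∀ n : ℕ, ∀ x : V, ((n : ZMod s) = -1) → (x⁻¹) ^ n = x := by
      intro n x hn
      have h1 : ((n + 1 : ℕ) : ZMod s) = 0 := by push_cast; rw [hn]; ring
      obtain ⟨d, hd⟩ := (ZMod.natCast_eq_zero_iff (n + 1) s).1 h1
      rw [inv_pow, inv_eq_iff_mul_eq_one, ← pow_succ, hd, pow_mul, hVs, one_pow]
    refine ⟨MonoidHom.mk' (fun x => (i • x) ^ α.val * (j • x) ^ β.val) (fun x x' => by
      simp only [smul_mul', mul_pow]; exact mul_mul_mul_comm _ _ _ _), fun x => ?_, i * j,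
      mul_mem hi hj, fun x => ?_, fun x => ?_, fun k hki hkj x => ?_⟩
    · show (i • ((i • x) ^ α.val * (j • x) ^ β.val)) ^ α.val *
        (j • ((i • x) ^ α.val * (j • x) ^ β.val)) ^ β.val = x
      have hn : (((α.val * α.val + β.val * β.val : ℕ)) : ZMod s) = -1 := by
        push_cast [ZMod.natCast_val, ZMod.cast_id]
        rw [← hαβ]; ring
      simp only [smul_mul', smul_pow', hii, hjj, hji, mul_pow, ← pow_mul, inv_pow]
      rw [mul_comm β.val α.val]
      set X := x with hX
      set Y := i • j • x with hY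
      calc (X ^ (α.val * α.val))⁻¹ * Y ^ (α.val * β.val) *
            ((Y ^ (α.val * β.val))⁻¹ * (X ^ (β.val * β.val))⁻¹)
          = (X ^ (α.val * α.val))⁻¹ * (X ^ (β.val * β.val))⁻¹ := by
            rw [mul_assoc, mul_inv_cancel_left]
        _ = (X⁻¹) ^ (α.val * α.val + β.val * β.val) := by rw [pow_add, inv_pow, inv_pow]
        _ = X := hpow _ X hn
    · show (i • (i * j) • x) ^ α.val * (j • (i * j) • x) ^ β.val =
        ((i * j) • ((i • x) ^ α.val * (j • x) ^ β.val))⁻¹
      simp only [mul_smul, smul_mul', smul_pow', hii, hjj, hji, smul_inv', inv_pow, inv_inv, mul_inv]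
    · show (i • a • x) ^ α.val * (j • a • x) ^ β.val = a • ((i • x) ^ α.val * (j • x) ^ β.val)
      rw [smul_mul', smul_pow', smul_pow', ← mul_smul i a, ← mul_smul j a, ← haE i hi, ← haE j hj,
        mul_smul, mul_smul]
    · show (i • k • x) ^ α.val * (j • k • x) ^ β.val = k • ((i • x) ^ α.val * (j • x) ^ β.val)
      rw [smul_mul', smul_pow', smul_pow', ← mul_smul i k, ← mul_smul j k, ← hki, ← hkj, mul_smul,
        mul_smul]
  obtain ⟨v, hv1, hv⟩ := exists_point hs2 hVs r hr f a hfr har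
  obtain ⟨P, hP, -⟩ := hy v hv1
  obtain ⟨k, hk, hka⟩ := hmovea P
  have hkE : ∀ e ∈ Cfsg.pCore 2 K, k * e = e * k := fun e he =>
    (mem_centralizer_iff.1 (hyE P hk) e he).symm
  obtain ⟨u, hu1, hku, hkau⟩ := hv k (hkr k (hkE i hi) (hkE j hj)) (hkE f hf') (hP hk)
  apply hka
  have hmem : a⁻¹ * (k * a * k⁻¹) ∈ A m :=
    mul_mem (inv_mem γ.2) ((hA m hm).normalA.conj_mem a γ.2 k)
  have hfixu : (a⁻¹ * (k * a * k⁻¹)) • u = u := by
    have h1 : k⁻¹ • u = u := inv_smul_eq_iff.2 hku.symm
    rw [mul_smul, mul_smul, mul_smul, h1, hkau, inv_smul_smul]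
  have := hfpf _ hm hmem u hu1 hfixu
  calc k * a = a * (a⁻¹ * (k * a * k⁻¹)) * k := by group
    _ = a * k := by rw [this, mul_one]

/-- The core statement. -/
theorem core [Group.IsSolvable K] [Nontrivial V] (hVs : ∀ v : V, v ^ s = 1)
    (hirr : Irred K V) (hf : ∀ k : K, (∀ v : V, k • v = v) → k = 1) {y z : ℕ} [Fact y.Prime]
    [Fact z.Prime] (hyz : y ≠ z) (hy : OnePoint K V y) (hz : OnePoint K V z)
    (hdeg : ∀ A : Subgroup K, A.Normal → IsCyclic A →
      ¬ y * z ∣ (centralizer (A : Set K)).index) :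
    ¬ y ∣ Nat.card K ∨ ¬ z ∣ Nat.card K := by
  by_contra hcon
  push Not at hcon
  obtain ⟨hyK, hzK⟩ := hcon
  have hVp : IsPGroup s V := fun v => ⟨1, by rw [pow_one]; exact hVs v⟩
  obtain ⟨t, ht, ht2, htK, htone⟩ :
      ∃ t : ℕ, t.Prime ∧ t ≠ 2 ∧ t ∣ Nat.card K ∧ OnePoint K V t := by
    by_cases h : y = 2
    · exact ⟨z, Fact.out, fun e => hyz (h.trans e.symm), hzK, hz⟩
    · exact ⟨y, Fact.out, h, hyK, hy⟩
  haveI := Fact.mk ht
  have hcyc : ∀ B : Subgroup K, B.Normal → IsMulCommutative B → IsCyclic B :=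
    fun B hB hab => haveI := hB; isCyclic_of_comm hirr hf hVp ht2 htK htone B hab
  have hchoose : ∀ l : ℕ, ∃ A : Subgroup K, l.Prime → MaxCyc K l (Cfsg.pCore l K) A := by
    intro l
    by_cases hl : l.Prime
    swap
    · exact ⟨⊥, fun h => absurd h hl⟩
    obtain ⟨A, ⟨hAn, hAE, hAc⟩, hmax⟩ := (Set.toFinite {A : Subgroup K |
      A.Normal ∧ A ≤ Cfsg.pCore l K ∧ ∀ a ∈ A, ∀ b ∈ A, a * b = b * a}).exists_maximal
      ⟨⊥, inferInstance, bot_le, fun a ha b hb => by
        rw [Subgroup.mem_bot.1 ha, Subgroup.mem_bot.1 hb]⟩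
    refine ⟨A, fun _ => ⟨hl, inferInstance, Cores.pCore_isPGroup l, hAn, hAE,
      hcyc A hAn ⟨⟨fun a b => Subtype.ext (hAc a a.2 b b.2)⟩⟩, fun B hBn hAB hBE hBc => ?_⟩⟩
    exact le_antisymm (hmax ⟨hBn, hBE, hBc⟩ hAB) hAB
  choose A hA using hchoose
  -- one of the primes centralises all cyclic parts
  have hall : (∀ l, l.Prime → ∀ P : Sylow z K, (P : Subgroup K) ≤ centralizer (A l : Set K)) ∨
      (∀ l, l.Prime → ∀ P : Sylow y K, (P : Subgroup K) ≤ centralizer (A l : Set K)) := by
    by_contra hcon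
    push Not at hcon
    obtain ⟨⟨l, hl, P, hP⟩, m, hm, Q, hQ⟩ := hcon
    haveI := (hA l hl).normalA
    haveI := (hA m hm).normalA
    rw [sylow_le_iff, not_not] at hP hQ
    have hdvd : ∀ B : Subgroup K, B.Normal → IsCyclic B → A l ≤ B → A m ≤ B → False := by
      intro B hB hBc hl' hm'
      refine hdeg B hB hBc (Nat.Coprime.mul_dvd_of_dvd_of_dvd
        ((Nat.coprime_primes Fact.out Fact.out).2 hyz) ?_ ?_)
      · exact hQ.trans (Subgroup.index_dvd_of_le (centralizer_le hm'))
      · exact hP.trans (Subgroup.index_dvd_of_le (centralizer_le hl'))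
    by_cases hlm : l = m
    · subst hlm
      exact hdvd (A l) inferInstance (hA l hl).cyclic le_rfl le_rfl
    haveI := Fact.mk hl
    haveI := Fact.mk hm
    have hp1 := (hA l hl).pgroup.to_le (hA l hl).le
    have hp2 := (hA m hm).pgroup.to_le (hA m hm).le
    have hdis : Disjoint (A l) (A m) := IsPGroup.disjoint_of_ne l m hlm _ _ hp1 hp2
    have hcomm := Subgroup.commute_of_normal_of_disjoint (A l) (A m) inferInstance inferInstance hdis
    haveI := (hA l hl).cyclic
    haveI := (hA m hm).cyclic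
    have hab : IsMulCommutative ↥(A l ⊔ A m) := by
      refine Subgroup.le_centralizer_iff_isMulCommutative.1 ?_
      refine sup_le ?_ ?_ <;> rw [Subgroup.le_centralizer_iff] <;> refine sup_le ?_ ?_
      · exact fun a ha => mem_centralizer_iff.2 fun b hb => (hA l hl).comm hb ha
      · exact fun b hb => mem_centralizer_iff.2 fun a ha => (hcomm a b ha hb).eq
      · exact fun a ha => mem_centralizer_iff.2 fun b hb => (hcomm a b ha hb).eq.symm
      · exact fun a ha => mem_centralizer_iff.2 fun b hb => (hA m hm).comm hb ha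
    exact hdvd _ inferInstance (hcyc _ inferInstance hab) le_sup_left le_sup_right
  rcases hall with h | h
  · exact core_aux hVs hirr hf hyz hy hz hyK hzK A hA h
  · exact core_aux hVs hirr hf hyz.symm hz hy hzK hyK A hA h

end main

end Cfsg.Agent.Lib.Palfy68
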