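import Cfsg.Agent.Lib.Palfy68.Dual

/-!
# Counting points by their Sylow subgroup
-/

set_option autoImplicit false
set_option linter.unusedSectionVars false

namespace Cfsg.Agent.Lib.Palfy68

open Subgroup

universe u v

variable {H : Type u} [Group H] [Finite H] {V : Type v} [CommGroup V] [Finite V]

/-- Points fixed by a subgroup. -/
def fixPts (ρ : H →* MulAut V) (B : Subgroup H) : Subgroup V where
  carrier := {v | B ≤ stab ρ v}
  one_mem' := fun b _ => map_one (ρ b)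
  mul_mem' := fun {v w} hv hw b hb => by
    show ρ b (v * w) = v * w
    rw [map_mul, show ρ b v = v from hv hb, show ρ b w = w from hw hb]
  inv_mem' := fun {v} hv b hb => by
    show ρ b v⁻¹ = v⁻¹
    rw [map_inv, show ρ b v = v from hv hb]

theorem mem_fixPts {ρ : H →* MulAut V} {B : Subgroup H} {v : V} :
    v ∈ fixPts ρ B ↔ B ≤ stab ρ v := Iff.rfl

/-- Nontrivial points of an invariant subgroup, counted by their Sylow subgroup. -/
theorem count_points (ρ : H →* MulAut V) {z : ℕ} [Fact z.Prime] (U : Subgroup V)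
    (hU : ∀ h : H, ∀ v ∈ U, ρ h v ∈ U)
    (hone : ∀ v ∈ U, v ≠ 1 → ∃ P : Sylow z H, (P : Subgroup H) ≤ stab ρ v ∧
      stab ρ v ≤ normalizer ((P : Subgroup H) : Set H)) (P₀ : Sylow z H) :
    Nat.card U - 1 = Nat.card (Sylow z H) *
      (Nat.card ↥(U ⊓ fixPts ρ (P₀ : Subgroup H)) - 1) := by
  classical
  haveI := Fintype.ofFinite (Sylow z H)
  have hsub : ∀ W : Subgroup V, Nat.card {v : V // v ∈ W ∧ v ≠ 1} = Nat.card W - 1 := by
    intro W
    haveI := Fintype.ofFinite W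
    haveI := Fintype.ofFinite V
    rw [Nat.card_congr (show {v : V // v ∈ W ∧ v ≠ 1} ≃ {w : W // w ≠ 1} from
      { toFun := fun v => ⟨⟨v.1, v.2.1⟩, fun e => v.2.2 (congrArg Subtype.val e)⟩
        invFun := fun w => ⟨w.1.1, w.1.2, fun e => w.2 (Subtype.ext e)⟩
        left_inv := fun _ => rfl
        right_inv := fun _ => rfl }), Nat.card_eq_fintype_card, Fintype.card_subtype_compl,
      Fintype.card_subtype_eq, Nat.card_eq_fintype_card]
  rw [← hsub U]
  have huniq : ∀ v ∈ U, v ≠ 1 → ∀ P Q : Sylow z H, (P : Subgroup H) ≤ stab ρ v →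
      (Q : Subgroup H) ≤ stab ρ v → P = Q := by
    intro v hv hv1 P Q hP hQ
    obtain ⟨R, -, hR⟩ := hone v hv hv1
    rw [one_unique hP hR, one_unique hQ hR]
  let e : {v : V // v ∈ U ∧ v ≠ 1} ≃
      Σ P : Sylow z H, {v : V // v ∈ U ⊓ fixPts ρ (P : Subgroup H) ∧ v ≠ 1} :=
    { toFun := fun v => ⟨(hone v.1 v.2.1 v.2.2).choose, v.1,
        ⟨v.2.1, (hone v.1 v.2.1 v.2.2).choose_spec.1⟩, v.2.2⟩
      invFun := fun p => ⟨p.2.1, p.2.2.1.1, p.2.2.2⟩
      left_inv := fun _ => rfl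
      right_inv := fun ⟨P, v, hv, hv1⟩ => by
        have hP := huniq v hv.1 hv1 _ P (hone v hv.1 hv1).choose_spec.1 hv.2
        exact Sigma.subtype_ext hP rfl }
  rw [Nat.card_congr e, Nat.card_sigma, Finset.sum_congr rfl
    (g := fun _ => Nat.card ↥(U ⊓ fixPts ρ (P₀ : Subgroup H)) - 1), Finset.sum_const,
    Finset.card_univ, smul_eq_mul, Nat.card_eq_fintype_card (α := Sylow z H)]
  intro P _
  obtain ⟨g, rfl⟩ := MulAction.exists_smul_eq H P₀ P
  rw [← hsub]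
  have hconj : ∀ (g : H) (B B' : Subgroup H), (∀ b ∈ B', g⁻¹ * b * g ∈ B) → ∀ v,
      v ∈ U ⊓ fixPts ρ B → ρ g v ∈ U ⊓ fixPts ρ B' := by
    intro g B B' hB v hv
    refine ⟨hU g v hv.1, fun b hb => ?_⟩
    have h1 : ρ (g⁻¹ * b * g) v = v := hv.2 (hB b hb)
    show ρ b (ρ g v) = ρ g v
    rw [← MulAut.mul_apply, ← map_mul, show b * g = g * (g⁻¹ * b * g) by group, map_mul,
      MulAut.mul_apply, h1]
  have h1 : ∀ b ∈ ((g • P₀ : Sylow z H) : Subgroup H), g⁻¹ * b * g ∈ (P₀ : Subgroup H) := by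
    rintro _ ⟨x, hx, rfl⟩
    show g⁻¹ * (g * x * g⁻¹) * g ∈ (P₀ : Subgroup H)
    rw [show g⁻¹ * (g * x * g⁻¹) * g = x by group]
    exact hx
  have h2 : ∀ b ∈ (P₀ : Subgroup H), g⁻¹⁻¹ * b * g⁻¹ ∈ ((g • P₀ : Sylow z H) : Subgroup H) :=
    fun b hb => ⟨b, hb, by simp⟩
  refine Nat.card_congr
    { toFun := fun v => ⟨ρ g⁻¹ v.1, hconj g⁻¹ _ _ h2 _ v.2.1, fun e => v.2.2
        ((ρ g⁻¹).injective (e.trans (map_one _).symm))⟩
      invFun := fun v => ⟨ρ g v.1, hconj g _ _ h1 _ v.2.1, fun e => v.2.2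
        ((ρ g).injective (e.trans (map_one _).symm))⟩
      left_inv := fun v => Subtype.ext (by
        show ρ g (ρ g⁻¹ v.1) = v.1
        rw [← MulAut.mul_apply, ← map_mul, mul_inv_cancel, map_one]; rfl)
      right_inv := fun v => Subtype.ext (by
        show ρ g⁻¹ (ρ g v.1) = v.1
        rw [← MulAut.mul_apply, ← map_mul, inv_mul_cancel, map_one]; rfl) }

/-- Two quotients `(x^B - 1)/(x^b - 1)` agree only for equal exponents. -/
theorem exp_eq {x n b w B W : ℕ} (hx : x.Prime) (hn : 2 ≤ n)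
    (h1 : x ^ B - 1 = n * (x ^ b - 1)) (h2 : x ^ W - 1 = n * (x ^ w - 1)) (hB : 1 ≤ B) :
    ¬ B < W := by
  intro hlt
  have hx2 := hx.two_le
  have p : ∀ k, 1 ≤ x ^ k := fun k => Nat.one_le_pow _ _ (by omega)
  have e1 : x ^ B + n = n * x ^ b + 1 := by
    have := p B; have := p b
    have h3 : n * (x ^ b - 1) + n = n * x ^ b := by
      rw [← Nat.mul_succ, Nat.succ_eq_add_one, Nat.sub_add_cancel (p b)]
    omega
  have e2 : x ^ W + n = n * x ^ w + 1 := by
    have := p W; have := p w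
    have h3 : n * (x ^ w - 1) + n = n * x ^ w := by
      rw [← Nat.mul_succ, Nat.succ_eq_add_one, Nat.sub_add_cancel (p w)]
    omega
  have hb : 1 ≤ b := by
    rcases Nat.eq_zero_or_pos b with rfl | hb
    · have : 2 ≤ x ^ B := le_trans hx2 (Nat.le_self_pow (by omega) x)
      simp at h1
      omega
    · exact hb
  have hbw : b < w := by
    by_contra hge
    have := Nat.mul_le_mul_left n (Nat.pow_le_pow_right (by omega : 0 < x) (not_lt.1 hge))
    have := Nat.pow_lt_pow_right hx.one_lt hlt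
    omega
  have hxb : x ^ b < x ^ w := Nat.pow_lt_pow_right hx.one_lt hbw
  have hxb2 : 2 ≤ x ^ b := le_trans hx2 (Nat.le_self_pow (by omega) x)
  have h3 : n * 2 ≤ n * x ^ b := Nat.mul_le_mul_left n hxb2
  have hW : w ≤ W := by
    by_contra h
    have h4 := Nat.pow_lt_pow_right hx.one_lt (not_le.1 h)
    have h5 : 1 * x ^ w < n * x ^ w := Nat.mul_lt_mul_of_pos_right (by omega) (by have := p w; omega)
    have h6 : n * x ^ w = x ^ w * n := mul_comm _ _
    have h7 : 2 * x ^ w ≤ n * x ^ w := Nat.mul_le_mul_right _ hn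
    nlinarith
  -- `n ≡ 1` modulo `x ^ w`
  obtain ⟨d, rfl⟩ := Nat.exists_eq_add_of_le hW
  have hn1 : (x : ℤ) ^ w ∣ (n : ℤ) - 1 := by
    refine ⟨(n : ℤ) - (x : ℤ) ^ d, ?_⟩
    have h4 : ((x ^ (w + d) + n : ℕ) : ℤ) = ((n * x ^ w + 1 : ℕ) : ℤ) := by rw [e2]
    push_cast at h4
    rw [pow_add] at h4
    linear_combination h4
  have hnw : x ^ w < n := by
    have h4 : (x : ℤ) ^ w ≤ (n : ℤ) - 1 := Int.le_of_dvd (by omega) hn1
    have h5 : ((x ^ w : ℕ) : ℤ) < (n : ℤ) := by push_cast; omega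
    exact_mod_cast h5
  have hBw : w ≤ B := by
    by_contra h
    have h4 := Nat.pow_lt_pow_right hx.one_lt (not_le.1 h)
    omega
  have hdvd : (x : ℤ) ^ w ∣ (n : ℤ) * (x : ℤ) ^ b := by
    have h4 : ((x ^ B + n : ℕ) : ℤ) = ((n * x ^ b + 1 : ℕ) : ℤ) := by rw [e1]
    push_cast at h4
    have h5 : (n : ℤ) * (x : ℤ) ^ b = (x : ℤ) ^ B + ((n : ℤ) - 1) := by linear_combination -h4
    rw [h5]
    exact dvd_add (pow_dvd_pow _ hBw) hn1
  have hd2 : x ^ w ∣ n * x ^ b := by exact_mod_cast hdvd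
  obtain ⟨e, rfl⟩ := Nat.exists_eq_add_of_lt hbw
  have hd3 : x ^ (e + 1) ∣ n := by
    rw [show b + e + 1 = b + (e + 1) by omega, pow_add, mul_comm n] at hd2
    exact Nat.dvd_of_mul_dvd_mul_left (p b) hd2
  have hxn : (x : ℤ) ∣ (n : ℤ) := Int.natCast_dvd_natCast.2 ((dvd_pow_self x (by omega)).trans hd3)
  have hx1 : (x : ℤ) ∣ (n : ℤ) - 1 := (dvd_pow_self (x : ℤ) (by omega)).trans hn1
  have : (x : ℤ) ∣ 1 := by
    have h4 := dvd_sub hxn hx1
    simpa using h4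
  exact hx.not_dvd_one (by exact_mod_cast this)

end Cfsg.Agent.Lib.Palfy68
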