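import Cfsg.Agent.Lib.Palfy68.Image
import Cfsg.Agent.Lib.RelGlauberman.Basic
import Cfsg.Agent.Lib.Glauberman.Solvable
import Cfsg.Agent.S4493

/-!
# Degrees over a normal subgroup with a complement
-/

set_option autoImplicit false
set_option linter.unusedSectionVars false

namespace Cfsg.Agent.Lib.Palfy68

open Subgroup
open Cfsg.Agent.Lib.Characters.Basic Cfsg.Agent.Lib.Clifford.Basic
open Cfsg.Agent.Lib.Induced.Basic

universe u

variable {G : Type u} [Group G] [Finite G]

/-- Factorisation along a complement, and the order count. -/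
theorem exists_mul_of_compl {X H : Subgroup G} [X.Normal] (hsup : X ⊔ H = ⊤) (g : G) :
    ∃ x ∈ X, ∃ h ∈ H, x * h = g :=
  Subgroup.mem_sup_of_normal_left.1 (hsup ▸ mem_top g)

/-- An invariant linear character of `X` extends to a semidirect product. -/
theorem exists_lin_ext (X H : Subgroup G) [X.Normal] (hsup : X ⊔ H = ⊤) (hinf : X ⊓ H = ⊥)
    (lam : X →* ℂˣ) (T : Subgroup G) (hXT : X ≤ T)
    (hinv : ∀ t ∈ T, ∀ x : X, lam (MulAut.conjNormal t x) = lam x) :
    ∃ μ : T →* ℂˣ, ∀ x : X, μ ⟨x, hXT x.2⟩ = lam x := by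
  classical
  have hex : ∀ t : T, ∃ x : X, ((x : G))⁻¹ * t ∈ H := fun t => by
    obtain ⟨x, hx, h, hh, e⟩ := exists_mul_of_compl hsup (t : G)
    exact ⟨⟨x, hx⟩, by rw [← e]; simpa using hh⟩
  choose c hc using hex
  have huniq : ∀ (t : T) (x : X), (x : G)⁻¹ * t ∈ H → x = c t := fun t x hx => by
    apply Subtype.ext
    have h1 : (x : G)⁻¹ * (c t : G) ∈ X ⊓ H := ⟨X.mul_mem (X.inv_mem x.2) (c t).2, by
      have h2 := mul_mem hx (inv_mem (hc t))
      rwa [show (x : G)⁻¹ * (t : G) * (((c t : G))⁻¹ * (t : G))⁻¹ = (x : G)⁻¹ * (c t : G) by group]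
        at h2⟩
    rw [hinf, Subgroup.mem_bot] at h1
    exact inv_mul_eq_one.1 h1
  refine ⟨MonoidHom.mk' (fun t => lam (c t)) fun a b => ?_, fun x => congrArg lam
    (huniq ⟨x, hXT x.2⟩ x (by simp)).symm⟩
  -- the component of a product
  set h₁ : G := ((c a : G))⁻¹ * a
  have hh₁T : h₁ ∈ T := mul_mem (inv_mem (hXT (c a).2)) a.2
  have e : c (a * b) = c a * MulAut.conjNormal h₁ (c b) := by
    refine (huniq (a * b) _ ?_).symm
    have h2 : ((c a * MulAut.conjNormal h₁ (c b) : X) : G)⁻¹ * ((a * b : T) : G) =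
        h₁ * (((c b : G))⁻¹ * b) := by
      simp only [Subgroup.coe_mul, MulAut.conjNormal_apply, h₁]
      group
    rw [h2]
    exact mul_mem (hc a) (hc b)
  show lam (c (a * b)) = lam (c a) * lam (c b)
  rw [e, map_mul, hinv h₁ hh₁T]

/-- The index of a subgroup above `X` is the index of its intersection with a complement. -/
theorem index_eq_relIndex {X H T : Subgroup G} [X.Normal] (hsup : X ⊔ H = ⊤) (hXT : X ≤ T) :
    T.index = (T.subgroupOf H).index := by
  show T.index = T.relIndex H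
  have h1 : (T ⊓ H).relIndex H * H.index = (T ⊓ H).relIndex T * T.index := by
    rw [relIndex_mul_index inf_le_right, relIndex_mul_index inf_le_left]
  rw [inf_relIndex_right, inf_relIndex_left] at h1
  -- `X` supplements `H` inside `T`
  have h2 : H.relIndex T = H.index := by
    refine Nat.card_congr (Equiv.ofBijective
      (Quotient.map' (fun t : T => (t : G)) fun a b hab => ?_) ⟨?_, ?_⟩) |>.trans H.index_eq_card.symm
      |> fun e => (Subgroup.index_eq_card (H.subgroupOf T)).trans e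
    · rw [QuotientGroup.leftRel_apply] at hab ⊢
      exact hab
    · intro a b
      induction a using Quotient.inductionOn' with | _ a => ?_
      induction b using Quotient.inductionOn' with | _ b => ?_
      intro hab
      have := Quotient.eq''.1 hab
      rw [QuotientGroup.leftRel_apply] at this
      refine Quotient.eq''.2 ?_
      rw [QuotientGroup.leftRel_apply]
      exact this
    · intro q
      induction q using Quotient.inductionOn' with | _ g => ?_
      obtain ⟨x, hx, h, hh, rfl⟩ := exists_mul_of_compl hsup g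
      refine ⟨Quotient.mk'' ⟨x, hXT hx⟩, Quotient.eq''.2 ?_⟩
      rw [QuotientGroup.leftRel_apply]
      simpa using hh
  rw [h2] at h1
  exact (Nat.eq_of_mul_eq_mul_right (Nat.pos_of_ne_zero index_ne_zero_of_finite)
    (h1.trans (mul_comm _ _))).symm

/-- A degree above an extendible character, for each character of the complement of the inertia
group. -/
theorem exists_degree (X H : Subgroup G) [X.Normal] (hsup : X ⊔ H = ⊤) (hinf : X ⊓ H = ⊥)
    (φ : Cfsg.IrrCharacter X) [Fintype X] (T : Subgroup G) (hT : T = inertia X (φ : X → ℂ))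
    (hXT : X ≤ T)
    (hext : ∃ η : Cfsg.IrrCharacter T, ∀ x : X, (η : T → ℂ) ⟨x, hXT x.2⟩ = (φ : X → ℂ) x)
    (θ : Cfsg.IrrCharacter (T.subgroupOf H)) :
    ∃ χ : Cfsg.IrrCharacter G, Cfsg.charDegree (χ : G → ℂ) =
      (T.subgroupOf H).index *
        (Cfsg.charDegree (θ : T.subgroupOf H → ℂ) * Cfsg.charDegree (φ : X → ℂ)) := by
  classical
  haveI := Fintype.ofFinite G
  obtain ⟨η, hη⟩ := hext
  haveI := Fintype.ofFinite T
  let X' : Subgroup T := X.subgroupOf T
  haveI : X'.Normal := inferInstance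
  haveI := Fintype.ofFinite X'
  let H' : Subgroup T := H.subgroupOf T
  have hc : H'.IsComplement' X' := by
    refine (isComplement'_of_disjoint_and_mul_eq_univ ?_ ?_)
    · rw [disjoint_iff, eq_bot_iff]
      rintro t ⟨h1, h2⟩
      have : (t : G) ∈ X ⊓ H := ⟨h2, h1⟩
      rw [hinf, Subgroup.mem_bot] at this
      exact Subgroup.mem_bot.2 (Subtype.ext this)
    · refine Set.eq_univ_of_forall fun t => ?_
      obtain ⟨x, hx, h, hh, e⟩ := exists_mul_of_compl hsup (t : G)
      have hxh : (h : G) ∈ T := by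
        have : h = x⁻¹ * t := by rw [← e]; group
        rw [this]
        exact mul_mem (inv_mem (hXT hx)) t.2
      refine ⟨⟨h, hxh⟩, hh, ⟨h⁻¹ * x * h, ?_⟩, ?_, ?_⟩
      · exact mul_mem (mul_mem (inv_mem hxh) (hXT hx)) hxh
      · show h⁻¹ * x * h ∈ X
        simpa using (inferInstance : X.Normal).conj_mem x hx h⁻¹
      · apply Subtype.ext
        show h * (h⁻¹ * x * h) = (t : G)
        rw [← e]; group
  let e₁ : T ⧸ X' ≃* H' := hc.QuotientMulEquiv
  let e₂ : H' ≃* (T.subgroupOf H : Subgroup H) :=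
    { toFun := fun t => ⟨⟨((t : T) : G), t.2⟩, (t : T).2⟩
      invFun := fun h => ⟨⟨((h : H) : G), h.2⟩, (h : H).2⟩
      left_inv := fun _ => rfl
      right_inv := fun _ => rfl
      map_mul' := fun _ _ => rfl }
  let π : T →* (T.subgroupOf H : Subgroup H) :=
    (e₁.trans e₂).toMonoidHom.comp (QuotientGroup.mk' X')
  have hπ : Function.Surjective π := (e₁.trans e₂).surjective.comp (QuotientGroup.mk'_surjective X')
  have hπker : π.ker = X' := by
    ext t
    rw [MonoidHom.mem_ker, MonoidHom.comp_apply, ← QuotientGroup.eq_one_iff (N := X') t]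
    exact (e₁.trans e₂).map_eq_one_iff
  let eX : X' ≃* X := subgroupOfEquivOfLe hXT
  let φ' : Cfsg.IrrCharacter X' :=
    ⟨(φ : X → ℂ) ∘ eX.toMonoidHom, isIrrCharacter_comp _ eX.surjective φ.2⟩
  have hη' : ∀ n : X', (η : T → ℂ) n = (φ' : X' → ℂ) n := fun n => hη (eX n)
  obtain ⟨hirr, -, -⟩ := RelGlauberman.gallagher_quot X' hπ hπker hη'
  let ψ : Cfsg.IrrCharacter T := ⟨_, hirr θ⟩
  have hψres : (ψ : T → ℂ) ∘ Subgroup.inclusion hXT =
      (θ : ↥(T.subgroupOf H) → ℂ) 1 • (φ : X → ℂ) := by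
    funext x
    exact RelGlauberman.twist_restrict X' hπker hη' θ (eX.symm x)
  have hψ0 : Cfsg.classInner ((ψ : T → ℂ) ∘ Subgroup.inclusion hXT) φ ≠ 0 := by
    rw [hψres, classInner_smul_left, classInner_self_irr, mul_one]
    exact apply_one_ne_zero θ
  obtain ⟨χ, hχ, -, -⟩ := RelGlauberman.correspondence X φ T hXT hT ψ hψ0
  refine ⟨χ, ?_⟩
  have h1 : (χ : G → ℂ) 1 = (T.index : ℂ) * (ψ : T → ℂ) 1 := by
    rw [← hχ, indFun_one]
  have h2 : (ψ : T → ℂ) 1 = (θ : ↥(T.subgroupOf H) → ℂ) 1 * (φ : X → ℂ) 1 :=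
    congrFun hψres 1
  rw [h2, BlocksChars5.Basic.apply_one, BlocksChars5.Basic.apply_one, BlocksChars5.Basic.apply_one,
    index_eq_relIndex hsup hXT] at h1
  exact_mod_cast h1

/-- A character invariant under a group of order prime to `|X|` extends. -/
theorem exists_ext_coprime (X : Subgroup G) [X.Normal] [Fintype X] (T : Subgroup G) (hXT : X ≤ T)
    (φ : Cfsg.IrrCharacter X) (hinv : ∀ t ∈ T, conjC X t φ = (φ : X → ℂ))
    (hcop : Nat.Coprime (X.relIndex T) (Nat.card X)) :
    ∃ η : Cfsg.IrrCharacter T, ∀ x : X, (η : T → ℂ) ⟨x, hXT x.2⟩ = (φ : X → ℂ) x := by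
  classical
  haveI := Fintype.ofFinite T
  let N : Subgroup T := X.subgroupOf T
  haveI := Fintype.ofFinite N
  let e : N ≃* X := subgroupOfEquivOfLe hXT
  let θ : Cfsg.IrrCharacter N :=
    ⟨(φ : X → ℂ) ∘ e.toMonoidHom, isIrrCharacter_comp _ e.surjective φ.2⟩
  have hinv' : ∀ (g : T) (n : N), (θ : N → ℂ) ⟨g * n * g⁻¹, (inferInstance : N.Normal).conj_mem n n.2 g⟩
      = (θ : N → ℂ) n := fun g n => congrFun (hinv (g : G) g.2) (e n)
  have hcopN : Nat.Coprime N.index (Nat.card N) := by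
    rw [Nat.card_congr e.toEquiv]; exact hcop
  obtain ⟨d, -, hdd, hdeg⟩ := Characters.Degree.exists_degree_dvd θ
  obtain ⟨lam, hlam⟩ := Clifford.Extension.exists_detHom θ.2
  have hlaminv : ∀ (g : T) (n : N),
      lam ⟨g * n * g⁻¹, (inferInstance : N.Normal).conj_mem (n : T) n.2 g⟩ = lam n := by
    intro g n
    apply Units.ext
    have h1 := fun x : N => congrFun hlam x
    obtain ⟨k, ρ, hρ, hρθ⟩ := θ.2
    haveI := hρ
    change Clifford.Linear.toFunHom lam _ = Clifford.Linear.toFunHom lam _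
    rw [h1, h1, ← hρθ, Clifford.Rep.detChar_eq ρ]
    exact Clifford.Rep.det_eq_of_char ρ (Clifford.Extension.conjRep N ρ g)
      (funext fun x => by
        change ρ.character _ = ρ.character x
        rw [hρθ]
        exact hinv' g x) n
  have hord : Nat.Coprime N.index (orderOf lam) := by
    refine hcopN.coprime_dvd_right ?_
    apply orderOf_dvd_of_pow_eq_one
    ext x
    rw [MonoidHom.pow_apply, ← map_pow, pow_card_eq_one', map_one, MonoidHom.one_apply]
  obtain ⟨μ, hμ, -⟩ := Clifford.Linear.exists_coprime_extension N lam hlaminv hord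
  obtain ⟨χ, hχ, hres, -⟩ := Clifford.Extension.exists_extension_char N θ.2 hinv'
    hdeg (hcopN.coprime_dvd_right hdd) μ (fun n => by rw [hμ]; exact congrFun hlam n)
  exact ⟨⟨χ, hχ⟩, fun x => hres (e.symm x)⟩

/-- All degrees of a subgroup of index prime to `y` prime to `y`: it has a normal abelian Sylow
`y`-subgroup of the whole group. -/
theorem sylow_of_degrees {H : Type u} [Group H] [Finite H] [Group.IsSolvable H] {y : ℕ}
    [Fact y.Prime] (S : Subgroup H) (hidx : ¬ y ∣ S.index)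
    (hdeg : ∀ θ : Cfsg.IrrCharacter S, ¬ y ∣ Cfsg.charDegree (θ : S → ℂ)) :
    ∃ P : Sylow y H, (P : Subgroup H) ≤ S ∧ S ≤ normalizer ((P : Subgroup H) : Set H) ∧
      ∀ a ∈ (P : Subgroup H), ∀ b ∈ (P : Subgroup H), a * b = b * a := by
  obtain ⟨Q, hQn, hQc, hQp, hQi⟩ := Cfsg.Agent.S4493.back _ y Fact.out le_rfl
    (inferInstance : Group.IsSolvable S) hdeg
  haveI := hQn
  have hidx' : ¬ y ∣ (Q.map S.subtype).index := by
    rw [index_map_subtype, (Fact.out : y.Prime).dvd_mul]
    exact fun h => h.elim hQi hidx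
  refine ⟨(hQp.map S.subtype).toSylow hidx', ?_, ?_, ?_⟩
  · rw [IsPGroup.toSylow_coe]; exact map_subtype_le Q
  · rw [IsPGroup.toSylow_coe]
    intro g hg
    exact Subgroup.le_normalizer_map S.subtype
      (mem_map_of_mem S.subtype (show (⟨g, hg⟩ : S) ∈ normalizer (Q : Set S) by
        rw [normalizer_eq_top]; trivial))
  · rw [IsPGroup.toSylow_coe]
    rintro _ ⟨a, ha, rfl⟩ _ ⟨b, hb, rfl⟩
    exact congrArg Subtype.val (hQc a ha b hb)

/-- A normal abelian `y`-subgroup with index prime to `y` excludes `y` from the degrees. -/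
theorem not_dvd_degree_of_sylow {y : ℕ} [Fact y.Prime] (Q : Subgroup G) [Q.Normal]
    (hc : ∀ a ∈ Q, ∀ b ∈ Q, a * b = b * a) (hi : ¬ y ∣ Q.index) (χ : Cfsg.IrrCharacter G) :
    ¬ y ∣ Cfsg.charDegree (χ : G → ℂ) := by
  haveI := Fintype.ofFinite G
  obtain ⟨d, hd, hdd⟩ := Clifford.Ito.degree_dvd_index Q hc χ
  intro h
  apply hi
  rw [Cfsg.charDegree, hd, Complex.natCast_re, Nat.floor_natCast] at h
  exact h.trans hdd

end Cfsg.Agent.Lib.Palfy68
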