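import Cfsg.Agent.Lib.Palfy68.Degrees

/-!
# Linear characters of a normal subgroup as a module for a supplement
-/

set_option autoImplicit false
set_option linter.unusedSectionVars false

namespace Cfsg.Agent.Lib.Palfy68

open Subgroup
open Cfsg.Agent.Lib.Characters.Basic Cfsg.Agent.Lib.Clifford.Basic

universe u v

/-! Operations on linear characters are read off the commutative group structure. -/

noncomputable scoped instance (priority := high) homOne {N : Type*} [Group N] : One (N →* ℂˣ) :=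
  (MonoidHom.instCommGroup (M := N) (N := ℂˣ)).toGroup.toDivInvMonoid.toMonoid.toMulOneClass.toMulOne.toOne
noncomputable scoped instance (priority := high) homMul {N : Type*} [Group N] : Mul (N →* ℂˣ) :=
  (MonoidHom.instCommGroup (M := N) (N := ℂˣ)).toGroup.toDivInvMonoid.toMonoid.toMulOneClass.toMulOne.toMul
noncomputable scoped instance (priority := high) homPow {N : Type*} [Group N] : Pow (N →* ℂˣ) ℕ :=
  (MonoidHom.instCommGroup (M := N) (N := ℂˣ)).toGroup.toDivInvMonoid.toMonoid.toNPow.toPow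
noncomputable scoped instance (priority := high) homInv {N : Type*} [Group N] : Inv (N →* ℂˣ) :=
  (MonoidHom.instCommGroup (M := N) (N := ℂˣ)).toGroup.toDivInvMonoid.toInv

/-- Finitely many linear characters. -/
theorem finite_hom (X : Type u) [Group X] [Finite X] : Finite (X →* ℂˣ) := by
  haveI : NeZero (Nat.card X) := ⟨Nat.card_pos.ne'⟩
  refine Finite.of_injective (fun (μ : X →* ℂˣ) (x : X) =>
    (⟨μ x, by rw [mem_rootsOfUnity, ← map_pow, pow_card_eq_one', map_one]⟩ :
      rootsOfUnity (Nat.card X) ℂ)) fun μ ν h => ?_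
  ext x
  exact congrArg (fun f : X → rootsOfUnity (Nat.card X) ℂ => (((f x : ℂˣ)) : ℂ)) h

/-- Linear characters separate the points of an abelian group. -/
theorem exists_hom_ne_one {Q : Type u} [Group Q] [Finite Q] (hc : ∀ a b : Q, a * b = b * a)
    {a : Q} (ha : a ≠ 1) : ∃ μ : Q →* ℂˣ, μ a ≠ 1 := by
  letI : CommGroup Q := { (inferInstance : Group Q) with mul_comm := hc }
  exact CommGroup.exists_apply_ne_one_of_hasEnoughRootsOfUnity Q ℂ ha

/-- An abelian group and its dual have the same order. -/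
theorem card_hom {Q : Type u} [Group Q] [Finite Q] (hc : ∀ a b : Q, a * b = b * a) :
    Nat.card (Q →* ℂˣ) = Nat.card Q := by
  letI : CommGroup Q := { (inferInstance : Group Q) with mul_comm := hc }
  exact CommGroup.card_monoidHom_of_hasEnoughRootsOfUnity Q ℂ

variable {G : Type u} [Group G]

/-- The action on the linear characters of a normal subgroup. -/
noncomputable def dualAct (X : Subgroup G) [X.Normal] : G →* MulAut (↥X →* ℂˣ) where
  toFun g :=
    { toFun := fun μ => μ.comp (MulAut.conjNormal g⁻¹).toMonoidHom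
      invFun := fun μ => μ.comp (MulAut.conjNormal g).toMonoidHom
      left_inv := fun μ => MonoidHom.ext fun x => by
        show μ (MulAut.conjNormal g⁻¹ (MulAut.conjNormal g x)) = μ x
        rw [← MulAut.mul_apply, ← map_mul, inv_mul_cancel, map_one]; rfl
      right_inv := fun μ => MonoidHom.ext fun x => by
        show μ (MulAut.conjNormal g (MulAut.conjNormal g⁻¹ x)) = μ x
        rw [← MulAut.mul_apply, ← map_mul, mul_inv_cancel, map_one]; rfl
      map_mul' := fun μ ν => rfl }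
  map_one' := MulEquiv.ext fun μ => MonoidHom.ext fun x => by simp
  map_mul' g h := MulEquiv.ext fun μ => MonoidHom.ext fun x => by
    show μ (MulAut.conjNormal (g * h)⁻¹ x) =
      μ (MulAut.conjNormal h⁻¹ (MulAut.conjNormal g⁻¹ x))
    rw [mul_inv_rev, map_mul]; rfl

theorem dualAct_apply (X : Subgroup G) [X.Normal] (g : G) (μ : ↥X →* ℂˣ) (x : X) :
    dualAct X g μ x = μ (MulAut.conjNormal g⁻¹ x) := rfl

theorem dualAct_eq_iff (X : Subgroup G) [X.Normal] (g : G) (μ : ↥X →* ℂˣ) :
    dualAct X g μ = μ ↔ ∀ x : X, μ (MulAut.conjNormal g x) = μ x := by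
  constructor
  · intro h x
    conv_lhs => rw [← h, dualAct_apply, ← MulAut.mul_apply, ← map_mul, inv_mul_cancel, map_one]
    rfl
  · intro h
    refine MonoidHom.ext fun x => ?_
    rw [dualAct_apply, ← h (MulAut.conjNormal g⁻¹ x), ← MulAut.mul_apply, ← map_mul, mul_inv_cancel,
      map_one]
    rfl

/-- The restriction of the action to a subgroup. -/
noncomputable def dualActOn (X H : Subgroup G) [X.Normal] : H →* MulAut (↥X →* ℂˣ) :=
  (dualAct X).comp H.subtype

theorem mem_stab_iff (X H : Subgroup G) [X.Normal] (μ : ↥X →* ℂˣ) (h : H) :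
    h ∈ stab (dualActOn X H) μ ↔ ∀ x : X, μ (MulAut.conjNormal (h : G) x) = μ x :=
  dualAct_eq_iff X (h : G) μ

theorem stab_eq [Finite G] (X H : Subgroup G) [X.Normal] (μ : ↥X →* ℂˣ) :
    stab (dualActOn X H) μ =
      (inertia X ((RelDegrees87.Basic.lin X μ : Cfsg.IrrCharacter X) : X → ℂ)).subgroupOf H := by
  ext h
  rw [mem_stab_iff, mem_subgroupOf, RelDegrees87.Basic.coe_lin, RelDegrees87.Basic.inertia_L]
  exact ⟨fun e => MonoidHom.ext fun x => e x, fun e x => DFunLike.congr_fun e x⟩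

/-- Characters trivial on the whole group at an element killed by all linear characters. -/
theorem ker_dual [Finite G] (N H : Subgroup G) [N.Normal]
    (hc : ∀ a b : N, a * b = b * a) {h : H} (hh : h ∈ (dualActOn N H).ker) :
    (h : G) ∈ centralizer (N : Set G) := by
  refine mem_centralizer_iff.2 fun n hn => ?_
  by_contra hne
  have h1 : (⟨n, hn⟩ : N)⁻¹ * MulAut.conjNormal (h : G) ⟨n, hn⟩ ≠ 1 := by
    intro e
    apply hne
    have := congrArg Subtype.val (inv_mul_eq_one.1 e)
    simp only [MulAut.conjNormal_apply] at this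
    calc n * (h : G) = (h : G) * n * (h : G)⁻¹ * (h : G) := by rw [← this]
      _ = (h : G) * n := by group
  obtain ⟨μ, hμ⟩ := exists_hom_ne_one hc h1
  apply hμ
  have h2 : h ∈ stab (dualActOn N H) μ := by
    rw [mem_stab, MonoidHom.mem_ker.1 hh]; rfl
  rw [map_mul, map_inv, (mem_stab_iff N H μ h).1 h2, inv_mul_cancel]

/-- The dual of a minimal normal abelian subgroup is irreducible for a supplement of its
centraliser. -/
theorem dual_irred [Finite G] (N H : Subgroup G) [N.Normal] (hc : ∀ a b : N, a * b = b * a)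
    (hmin : ∀ M : Subgroup G, M.Normal → M ≤ N → M = ⊥ ∨ M = N)
    (hfac : ∀ g : G, ∃ c ∈ centralizer (N : Set G), ∃ h ∈ H, c * h = g)
    (U : Subgroup (↥N →* ℂˣ)) (hU : ∀ h : H, ∀ μ ∈ U, dualActOn N H h μ ∈ U) :
    U = ⊥ ∨ U = ⊤ := by
  haveI := finite_hom N
  let M : Subgroup G :=
    { carrier := {g | ∃ hg : g ∈ N, ∀ μ ∈ U, μ ⟨g, hg⟩ = 1}
      one_mem' := ⟨one_mem _, fun μ _ => map_one μ⟩
      mul_mem' := by
        rintro a b ⟨ha, ha'⟩ ⟨hb, hb'⟩
        exact ⟨mul_mem ha hb, fun μ hμ => by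
          rw [show (⟨a * b, mul_mem ha hb⟩ : N) = ⟨a, ha⟩ * ⟨b, hb⟩ from rfl, map_mul, ha' μ hμ,
            hb' μ hμ, one_mul]⟩
      inv_mem' := by
        rintro a ⟨ha, ha'⟩
        exact ⟨inv_mem ha, fun μ hμ => by
          rw [show (⟨a⁻¹, inv_mem ha⟩ : N) = ⟨a, ha⟩⁻¹ from rfl, map_inv, ha' μ hμ, inv_one]⟩ }
  have hMn : M.Normal := by
    refine ⟨fun a ha g => ?_⟩
    obtain ⟨ha, ha'⟩ := ha
    obtain ⟨c, hc', h, hh, rfl⟩ := hfac g
    refine ⟨(inferInstance : N.Normal).conj_mem a ha _, fun μ hμ => ?_⟩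
    have h1 := ha' _ (hU ⟨h, hh⟩⁻¹ μ hμ)
    change μ (MulAut.conjNormal ((⟨h, hh⟩⁻¹ : H) : G)⁻¹ ⟨a, ha⟩) = 1 at h1
    rw [show ((⟨h, hh⟩⁻¹ : H) : G)⁻¹ = h from inv_inv h] at h1
    rw [← h1]
    congr 1
    apply Subtype.ext
    simp only [MulAut.conjNormal_apply]
    have h2 := mem_centralizer_iff.1 hc' _ ((inferInstance : N.Normal).conj_mem a ha h)
    calc c * h * a * (c * h)⁻¹ = c * (h * a * h⁻¹) * c⁻¹ := by group
      _ = h * a * h⁻¹ := by rw [← h2]; group
  rcases hmin M hMn (fun g ⟨hg, _⟩ => hg) with h | h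
  · right
    haveI : Finite U := inferInstance
    have hle : Nat.card N ≤ Nat.card (U →* ℂˣ) := by
      haveI := finite_hom U
      refine Nat.card_le_card_of_injective (fun n : N =>
        (MonoidHom.mk' (fun μ : U => (μ : ↥N →* ℂˣ) n) fun _ _ => rfl)) fun a b hab => ?_
      by_contra hne
      have hm : ((a⁻¹ * b : N) : G) ∈ M := ⟨(a⁻¹ * b).2, fun μ hμ => by
        have := DFunLike.congr_fun hab (⟨μ, hμ⟩ : U)
        simp only [MonoidHom.mk'_apply] at this
        show μ (a⁻¹ * b) = 1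
        rw [map_mul, map_inv, this, inv_mul_cancel]⟩
      rw [h, Subgroup.mem_bot] at hm
      exact hne (inv_mul_eq_one.1 (Subtype.ext hm))
    rw [card_hom fun a b => mul_comm a b] at hle
    exact Subgroup.eq_top_of_card_eq _ (le_antisymm (Subgroup.card_le_card_group _)
      ((card_hom hc).trans_le hle))
  · left
    refine (Subgroup.eq_bot_iff_forall _).2 fun μ hμ => MonoidHom.ext fun n => ?_
    obtain ⟨_, h'⟩ : (n : G) ∈ M := h.symm ▸ n.2
    exact h' μ hμ

/-- A normal `p`-subgroup lies in every subgroup of index prime to `p`. -/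
theorem le_of_not_dvd_index {H : Type u} [Group H] [Finite H] {p : ℕ} [Fact p.Prime]
    {Q S : Subgroup H} [Q.Normal] (hQ : IsPGroup p Q) (hS : ¬ p ∣ S.index) : Q ≤ S := by
  obtain ⟨R⟩ : Nonempty (Sylow p S) := inferInstance
  have hidx : ¬ p ∣ ((R : Subgroup S).map S.subtype).index := by
    rw [index_map_subtype, (Fact.out : p.Prime).dvd_mul]
    exact fun h => h.elim R.not_dvd_index hS
  let R' : Sylow p H := (R.2.map S.subtype).toSylow hidx
  have h1 : IsPGroup p ↥((R' : Subgroup H) ⊔ Q) := IsPGroup.to_sup_of_normal_right R'.2 hQ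
  have h2 : Q ≤ (R' : Subgroup H) := le_sup_right.trans (R'.3 h1 le_sup_left).le
  rw [IsPGroup.toSylow_coe] at h2
  exact h2.trans (map_subtype_le _)

/-- Clifford side: if `x` divides a degree over `φ` in any case, `w` gives a normal abelian
Sylow subgroup in the inertia group. -/
theorem sylow_side [Finite G] [Group.IsSolvable G] (X H : Subgroup G) [X.Normal] [Fintype X]
    (hsup : X ⊔ H = ⊤) (hinf : X ⊓ H = ⊥) (φ : Cfsg.IrrCharacter X) (T : Subgroup G)
    (hT : T = inertia X (φ : X → ℂ)) (hXT : X ≤ T)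
    (hext : ∃ η : Cfsg.IrrCharacter T, ∀ n : X, (η : T → ℂ) ⟨n, hXT n.2⟩ = (φ : X → ℂ) n)
    {x w : ℕ} [Fact x.Prime] [Fact w.Prime] (hxw : x ≠ w)
    (hno : ∀ χ : Cfsg.IrrCharacter G, ¬ x * w ∣ Cfsg.charDegree (χ : G → ℂ))
    (hx : x ∣ (T.subgroupOf H).index * Cfsg.charDegree (φ : X → ℂ)) :
    ¬ w ∣ (T.subgroupOf H).index ∧
      ∃ P : Sylow w H, (P : Subgroup H) ≤ T.subgroupOf H ∧
        T.subgroupOf H ≤ normalizer ((P : Subgroup H) : Set H) ∧
        ∀ a ∈ (P : Subgroup H), ∀ b ∈ (P : Subgroup H), a * b = b * a := by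
  have key : ∀ θ : Cfsg.IrrCharacter (T.subgroupOf H),
      ¬ w ∣ (T.subgroupOf H).index * Cfsg.charDegree (θ : T.subgroupOf H → ℂ) := by
    intro θ hw
    obtain ⟨χ, hχ⟩ := exists_degree X H hsup hinf φ T hT hXT hext θ
    apply hno χ
    rw [hχ]
    refine Nat.Coprime.mul_dvd_of_dvd_of_dvd ((Nat.coprime_primes Fact.out Fact.out).2 hxw) ?_ ?_
    · rw [mul_left_comm]; exact Dvd.dvd.mul_left hx _
    · rw [← mul_assoc]; exact Dvd.dvd.mul_right hw _
  obtain ⟨χ₀⟩ : Nonempty (Cfsg.IrrCharacter (T.subgroupOf H)) := ⟨oneChar _⟩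
  have hidx : ¬ w ∣ (T.subgroupOf H).index := fun h => key χ₀ (h.mul_right _)
  exact ⟨hidx, sylow_of_degrees _ hidx fun θ h => key θ (h.mul_left _)⟩

end Cfsg.Agent.Lib.Palfy68
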