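import Mathlib
import Cfsg.Agent.Lib.BlocksChars5.GagolaQuot.ClassTwo

/-!
# Points with a unique Sylow subgroup in their stabilisers

`K` acts on an abelian `s`-group `V`; every nontrivial point has a stabiliser with a normal Sylow
`y`-subgroup of `K`.  Then (for odd `y`) all abelian normal subgroups of `K` are cyclic.
-/

set_option autoImplicit false
set_option linter.unusedSectionVars false

namespace Cfsg.Agent.Lib.Palfy68

open Subgroup MulAction
open scoped Pointwise

universe u v

variable {K : Type u} [Group K] [Finite K] {V : Type v} [CommGroup V] [Finite V]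
  [MulDistribMulAction K V]

/-- Every nontrivial point has a stabiliser with a normal Sylow `y`-subgroup of `K`. -/
def OnePoint (K : Type u) [Group K] (V : Type v) [CommGroup V] [MulDistribMulAction K V]
    (y : ℕ) : Prop :=
  ∀ v : V, v ≠ 1 → ∃ P : Sylow y K, (P : Subgroup K) ≤ stabilizer K v ∧
    stabilizer K v ≤ normalizer ((P : Subgroup K) : Set K)

/-- `V` has no proper invariant subgroup. -/
def Irred (K : Type u) [Group K] (V : Type v) [CommGroup V] [MulDistribMulAction K V] : Prop :=
  ∀ U : Subgroup V, (∀ k : K, ∀ x ∈ U, k • x ∈ U) → U = ⊥ ∨ U = ⊤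

/-- Points fixed by a subgroup. -/
def fixSub (B : Subgroup K) : Subgroup V where
  carrier := {v | ∀ b ∈ B, b • v = v}
  one_mem' := fun b _ => smul_one b
  mul_mem' := fun {v w} hv hw b hb => by rw [smul_mul', hv b hb, hw b hb]
  inv_mem' := fun {v} hv b hb => by rw [smul_inv', hv b hb]

theorem exists_mem_ne {G : Type*} [Group G] {H : Subgroup G} (h : H ≠ ⊥) :
    ∃ x ∈ H, x ≠ 1 :=
  (H.bot_or_exists_ne_one).resolve_left h

theorem mem_fixSub {B : Subgroup K} {v : V} : v ∈ fixSub B ↔ ∀ b ∈ B, b • v = v := Iff.rfl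

theorem sylow_unique {y : ℕ} [Fact y.Prime] {v : V} {P Q : Sylow y K}
    (hP : (P : Subgroup K) ≤ stabilizer K v)
    (hQ : stabilizer K v ≤ normalizer ((Q : Subgroup K) : Set K)) : P = Q := by
  have h1 : IsPGroup y ↥((P : Subgroup K) ⊔ (Q : Subgroup K)) :=
    IsPGroup.to_sup_of_normal_right' P.2 Q.2 (hP.trans hQ)
  have h2 := P.3 h1 le_sup_left
  exact Sylow.ext (Q.3 P.2 (h2 ▸ le_sup_right))

theorem smul_mem_fixSub {B : Subgroup K} (k : K) {v : V} (hv : v ∈ fixSub B) :
    k • v ∈ fixSub (B.map (MulAut.conj k).toMonoidHom) := by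
  rintro _ ⟨b, hb, rfl⟩
  show (k * b * k⁻¹) • (k • v) = k • v
  rw [← mul_smul, inv_mul_cancel_right, mul_smul, hv b hb]

theorem stable_of_normal {B : Subgroup K} (hB : B.Normal) (k : K) {v : V} (hv : v ∈ fixSub B) :
    k • v ∈ fixSub B := by
  intro b hb
  have h := hv (k⁻¹ * b * k) (by simpa using hB.conj_mem b hb k⁻¹)
  calc b • k • v = k • ((k⁻¹ * b * k) • v) := by rw [← mul_smul, ← mul_smul]; group
    _ = k • v := by rw [h]

/-- A normal subgroup fixing a nontrivial point acts trivially. -/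
theorem eq_bot_of_fixSub_ne_bot (hirr : Irred K V) (hf : ∀ k : K, (∀ v : V, k • v = v) → k = 1)
    {B : Subgroup K} (hB : B.Normal) (h : fixSub (V := V) B ≠ ⊥) : B = ⊥ := by
  have htop : fixSub (V := V) B = ⊤ :=
    ((hirr _ fun k x hx => stable_of_normal hB k hx)).resolve_left h
  refine (Subgroup.eq_bot_iff_forall _).2 fun b hb => hf b fun v => ?_
  exact (htop ▸ Subgroup.mem_top v : v ∈ fixSub B) b hb

/-- A normal `y`-subgroup is trivial. -/
theorem eq_bot_of_pGroup {y : ℕ} [Fact y.Prime] (hirr : Irred K V)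
    (hf : ∀ k : K, (∀ v : V, k • v = v) → k = 1) [Nontrivial V] (hone : OnePoint K V y)
    {B : Subgroup K} (hB : B.Normal) (hBy : IsPGroup y B) : B = ⊥ := by
  obtain ⟨v, hv⟩ := exists_ne (1 : V)
  obtain ⟨P, hP, -⟩ := hone v hv
  have hBP : B ≤ (P : Subgroup K) := by
    have h1 : IsPGroup y ↥((P : Subgroup K) ⊔ B) := IsPGroup.to_sup_of_normal_right P.2 hBy
    exact le_sup_right.trans (P.3 h1 le_sup_left).le
  refine eq_bot_of_fixSub_ne_bot hirr hf hB fun h => hv ?_
  rw [← Subgroup.mem_bot, ← h]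
  exact fun b hb => hP (hBP hb)

/-- A normal `s`-subgroup is trivial. -/
theorem eq_bot_of_char {s : ℕ} [Fact s.Prime] (hirr : Irred K V)
    (hf : ∀ k : K, (∀ v : V, k • v = v) → k = 1) [Nontrivial V] (hV : IsPGroup s V)
    {B : Subgroup K} (hB : B.Normal) (hBs : IsPGroup s B) : B = ⊥ := by
  refine eq_bot_of_fixSub_ne_bot hirr hf hB fun h => ?_
  have h1 : (1 : V) ∈ fixedPoints B V := fun b => smul_one (b : K)
  have hd : s ∣ Nat.card V := by
    obtain ⟨n, hn⟩ := IsPGroup.iff_card.1 hV
    rcases Nat.eq_zero_or_pos n with rfl | hn0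
    · exact absurd hn (by rw [pow_zero]; exact Finite.one_lt_card.ne')
    · exact hn ▸ dvd_pow_self s hn0.ne'
  obtain ⟨w, hw, hw1⟩ := hBs.exists_fixed_point_of_prime_dvd_card_of_fixed_point V hd h1
  apply hw1
  have : w ∈ fixSub (V := V) B := fun b hb => hw ⟨b, hb⟩
  rw [h, Subgroup.mem_bot] at this
  exact this.symm

/-- A commutative normal subgroup has order prime to `s`. -/
theorem not_dvd_card_of_comm {s : ℕ} [Fact s.Prime] (hirr : Irred K V)
    (hf : ∀ k : K, (∀ v : V, k • v = v) → k = 1) [Nontrivial V] (hV : IsPGroup s V)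
    (A : Subgroup K) [hA : A.Normal] (hab : IsMulCommutative A) : ¬ s ∣ Nat.card A := by
  intro hd
  haveI := hab
  let T : Sylow s A := default
  have hT : (T : Subgroup A).Characteristic :=
    T.characteristic_of_normal (Subgroup.normal_of_comm _)
  have hTn : ((T : Subgroup A).map A.subtype).Normal := inferInstance
  have := eq_bot_of_char hirr hf hV hTn (T.2.map _)
  rw [Subgroup.map_eq_bot_iff_of_injective _ A.subtype_injective] at this
  exact T.ne_bot_of_dvd_card hd this

section components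

variable {s : ℕ} [Fact s.Prime] (hV : IsPGroup s V)
  {A : Subgroup K} (hab : IsMulCommutative A) (hAs : ¬ s ∣ Nat.card A)

/-- Maximal subgroups of `A` with a nontrivial fixed point. -/
def IsPart (A B : Subgroup K) (V : Type v) [CommGroup V] [MulDistribMulAction K V] : Prop :=
  B ≤ A ∧ fixSub (V := V) B ≠ ⊥ ∧
    ∀ C : Subgroup K, B ≤ C → C ≤ A → fixSub (V := V) C ≠ ⊥ → C = B

include hab in
theorem comm_A {a b : K} (ha : a ∈ A) (hb : b ∈ A) : a * b = b * a :=
  congrArg Subtype.val (hab.is_comm.comm ⟨a, ha⟩ ⟨b, hb⟩)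

omit [Finite V] in
theorem exists_isPart {B : Subgroup K} (hB : B ≤ A) (h : fixSub (V := V) B ≠ ⊥) :
    ∃ C, B ≤ C ∧ IsPart A C V := by
  classical
  obtain ⟨C, ⟨hBC, hCA, hC⟩, hmax⟩ := Set.Finite.exists_maximal
    (Set.toFinite {C : Subgroup K | B ≤ C ∧ C ≤ A ∧ fixSub (V := V) C ≠ ⊥}) ⟨B, le_rfl, hB, h⟩
  exact ⟨C, hBC, hCA, hC, fun D hCD hDA hD =>
    le_antisymm (hmax ⟨hBC.trans hCD, hDA, hD⟩ hCD) hCD⟩

/-- The norm map of `B`. -/
noncomputable def norm (B : Subgroup K) (v : V) : V :=
  letI := Fintype.ofFinite B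
  ∏ b : B, (b : K) • v

theorem norm_mul (B : Subgroup K) (v w : V) : norm B (v * w) = norm B v * norm B w := by
  simp only [norm, smul_mul', Finset.prod_mul_distrib]

theorem norm_fixed {B : Subgroup K} {v : V} (hv : v ∈ fixSub B) : norm B v = v ^ Nat.card B := by
  let := Fintype.ofFinite B
  simp only [norm]
  rw [Finset.prod_congr rfl (g := fun _ : B => v) fun b _ => hv (b : K) b.2, Finset.prod_const,
    Finset.card_univ, Nat.card_eq_fintype_card]

theorem norm_mem (B : Subgroup K) (v : V) : norm B v ∈ fixSub B := by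
  let := Fintype.ofFinite B
  intro c hc
  simp only [norm, Finset.smul_prod', ← mul_smul]
  exact Equiv.prod_comp (Equiv.mulLeft (⟨c, hc⟩ : B)) (fun b : B => (b : K) • v)

include hab in
theorem norm_part {B B' : Subgroup K} (hB : IsPart A B V) (hB' : IsPart A B' V) (hne : B ≠ B')
    {v : V} (hv : v ∈ fixSub B') : norm B v = 1 := by
  by_contra h
  let := Fintype.ofFinite B
  have hfix : norm B v ∈ fixSub (B ⊔ B') := by
    have hle : B ⊔ B' ≤ stabilizer K (norm B v) := by
      refine sup_le (fun b hb => norm_mem B v b hb) fun c hc => ?_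
      show c • norm B v = norm B v
      simp only [norm, Finset.smul_prod', ← mul_smul]
      refine Finset.prod_congr rfl fun b _ => ?_
      rw [comm_A hab (hB'.1 hc) (hB.1 b.2), mul_smul, hv c hc]
    exact fun b hb => hle hb
  have hne' : fixSub (V := V) (B ⊔ B') ≠ ⊥ := fun e => h (by rw [e, Subgroup.mem_bot] at hfix; exact hfix)
  have h1 := hB.2.2 _ le_sup_left (sup_le hB.1 hB'.1) hne'
  have h2 := hB'.2.2 _ le_sup_right (sup_le hB.1 hB'.1) hne'
  exact hne (h1.symm.trans h2)

include hV hAs in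
theorem pow_inj {B : Subgroup K} (hBA : B ≤ A) {v w : V} (h : v ^ Nat.card B = w ^ Nat.card B) :
    v = w := by
  obtain ⟨n, hn⟩ := IsPGroup.iff_card.1 hV
  have hc : (Nat.card V).Coprime (Nat.card B) := by
    rw [hn]
    refine Nat.Coprime.pow_left n (((Fact.out : s.Prime)).coprime_iff_not_dvd.2 fun hd => ?_)
    exact hAs (hd.trans (Subgroup.card_dvd_of_le hBA))
  exact (powCoprime hc).injective h

theorem isPart_map (hA : A.Normal) (k : K) {B : Subgroup K} (hB : IsPart A B V) :
    IsPart A (B.map (MulAut.conj k).toMonoidHom) V := by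
  have hmap : ∀ (g : K) {C : Subgroup K}, C ≤ A → C.map (MulAut.conj g).toMonoidHom ≤ A := by
    rintro g C hC _ ⟨c, hc, rfl⟩
    exact hA.conj_mem c (hC hc) g
  have hne : ∀ (g : K) {C : Subgroup K}, fixSub (V := V) C ≠ ⊥ →
      fixSub (V := V) (C.map (MulAut.conj g).toMonoidHom) ≠ ⊥ := by
    intro g C hC h
    apply hC
    refine (Subgroup.eq_bot_iff_forall _).2 fun v hv => ?_
    have := smul_mem_fixSub g hv
    rw [h, Subgroup.mem_bot] at this
    exact smul_left_cancel g (this.trans (smul_one g).symm)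
  refine ⟨hmap k hB.1, hne k hB.2.1, fun C hC hCA hC1 => ?_⟩
  have hback : ∀ (g : K) (X : Subgroup K),
      (X.map (MulAut.conj g).toMonoidHom).map (MulAut.conj g⁻¹).toMonoidHom = X := by
    intro g X
    rw [Subgroup.map_map]
    convert Subgroup.map_id X
    ext x
    simp [mul_assoc]
  have h1 : C.map (MulAut.conj k⁻¹).toMonoidHom = B :=
    hB.2.2 _ (by
      conv_lhs => rw [← hback k B]
      exact Subgroup.map_mono hC) (hmap k⁻¹ hCA) (hne k⁻¹ hC1)
  rw [← h1]
  have := hback k⁻¹ C
  rw [inv_inv] at this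
  exact this.symm

include hV hab hAs in
/-- An element of odd order fixing a product of two points from different parts fixes both. -/
theorem fixes_of_fixes_mul (hA : A.Normal) {B C : Subgroup K} (hB : IsPart A B V)
    (hC : IsPart A C V) (hne : B ≠ C) {v w : V} (hv : v ∈ fixSub B) (hv1 : v ≠ 1)
    (hw : w ∈ fixSub C) (hw1 : w ≠ 1) {k : K} (hk : Odd (orderOf k))
    (hfix : k • (v * w) = v * w) : k • v = v := by
  -- analysis of one element
  have key : ∀ (k : K), k • (v * w) = v * w →
      ∀ {B C : Subgroup K} {v' w' : V}, IsPart A B V → IsPart A C V → B ≠ C → v' ∈ fixSub B →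
      w' ∈ fixSub C → v' ≠ 1 → v' * w' = v * w →
      (B.map (MulAut.conj k).toMonoidHom = B ∧ k • v' = v') ∨
        (C.map (MulAut.conj k).toMonoidHom = B ∧ k • w' = v') := by
    intro k hk B C v' w' hB hC hne hv' hw' hv1 hprod
    have e : v' * w' = (k • v') * (k • w') := by rw [← smul_mul', hprod, hk]
    have e' := congrArg (norm B) e
    rw [norm_mul, norm_mul, norm_fixed hv', norm_part hab hB hC hne hw', mul_one] at e'
    have hBk := isPart_map (V := V) hA k hB
    have hCk := isPart_map (V := V) hA k hC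
    by_cases h1 : B.map (MulAut.conj k).toMonoidHom = B
    · left
      refine ⟨h1, ?_⟩
      have h2 : C.map (MulAut.conj k).toMonoidHom ≠ B := fun h =>
        hne (Subgroup.map_injective (MulAut.conj k).injective (h1.trans h.symm))
      have hkv : k • v' ∈ fixSub B := by have := smul_mem_fixSub k hv'; rwa [h1] at this
      rw [norm_part hab hB hCk (Ne.symm h2) (smul_mem_fixSub k hw'), mul_one, norm_fixed hkv] at e'
      exact (pow_inj hV hAs hB.1 e').symm
    · right
      rw [norm_part hab hB hBk (Ne.symm h1) (smul_mem_fixSub k hv'), one_mul] at e'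
      by_cases h2 : C.map (MulAut.conj k).toMonoidHom = B
      · refine ⟨h2, ?_⟩
        have hkw : k • w' ∈ fixSub B := by have := smul_mem_fixSub k hw'; rwa [h2] at this
        rw [norm_fixed hkw] at e'
        exact (pow_inj hV hAs hB.1 e').symm
      · rw [norm_part hab hB hCk (Ne.symm h2) (smul_mem_fixSub k hw'),
          ← one_pow (Nat.card B)] at e'
        exact absurd (pow_inj hV hAs hB.1 e') hv1
  rcases key k hfix hB hC hne hv hw hv1 rfl with ⟨-, h⟩ | ⟨-, hwv⟩
  · exact h
  rcases key k hfix hC hB (Ne.symm hne) hw hv hw1 (mul_comm w v) with ⟨-, h⟩ | ⟨-, hvw⟩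
  · have : v = w := hwv.symm.trans h
    exact absurd (Subgroup.mem_bot.1 (show v ∈ (⊥ : Subgroup V) by
      have hvv : v ∈ fixSub C := this ▸ hw
      have h1 := norm_part hab hB hC hne hvv
      rw [norm_fixed hv, ← one_pow (Nat.card B)] at h1
      exact Subgroup.mem_bot.2 (pow_inj hV hAs hB.1 h1))) hv1
  -- swapped: a power of the square is `k`
  obtain ⟨j, hj⟩ := hk
  have h2 : (k ^ 2) • v = v := by rw [pow_two, mul_smul, hvw, hwv]
  have : k = (k ^ 2) ^ (j + 1) := by
    rw [← pow_mul, show 2 * (j + 1) = orderOf k + 1 by omega, pow_succ, pow_orderOf_eq_one, one_mul]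
  rw [this]
  exact (show (k ^ 2) ^ (j + 1) ∈ stabilizer K v from
    pow_mem (show k ^ 2 ∈ stabilizer K v from h2) _)

end components

/-- Commutative normal subgroups are cyclic. -/
theorem isCyclic_of_comm {s t : ℕ} [Fact s.Prime] [Fact t.Prime] (hirr : Irred K V)
    (hf : ∀ k : K, (∀ v : V, k • v = v) → k = 1) [Nontrivial V] (hV : IsPGroup s V)
    (ht : t ≠ 2) (htK : t ∣ Nat.card K) (hone : OnePoint K V t)
    (A : Subgroup K) [hA : A.Normal] (hab : IsMulCommutative A) : IsCyclic A := by
  have hAs := not_dvd_card_of_comm hirr hf hV A hab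
  have hodd : ∀ (P : Sylow t K), ∀ k ∈ (P : Subgroup K), Odd (orderOf k) := by
    intro P k hk
    obtain ⟨n, hn⟩ := IsPGroup.exists_orderOf_dvd_pow P.2 ⟨k, hk⟩
    rw [Subgroup.orderOf_mk] at hn
    exact Odd.of_dvd_nat (((Fact.out : t.Prime).odd_of_ne_two ht).pow) hn
  -- all parts are equal
  have huniq : ∀ B C : Subgroup K, IsPart A B V → IsPart A C V → B = C := by
    intro B C hB hC
    by_contra hne
    obtain ⟨v, hv, hv1⟩ := exists_mem_ne hB.2.1
    obtain ⟨w, hw, hw1⟩ := exists_mem_ne hC.2.1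
    obtain ⟨P₀, -, hP₀n⟩ := hone v hv1
    have key : ∀ {B C : Subgroup K}, IsPart A B V → IsPart A C V → B ≠ C →
        ∀ {x x' : V}, x ∈ fixSub B → x ≠ 1 → x' ∈ fixSub C → x' ≠ 1 →
        ∃ P : Sylow t K, (P : Subgroup K) ≤ stabilizer K x ∧ (P : Subgroup K) ≤ stabilizer K x' := by
      intro B C hB hC hne x x' hx hx1 hx' hx'1
      have hxx : x * x' ≠ 1 := fun h => by
        have hxe : x ∈ fixSub C := by
          rw [eq_inv_of_mul_eq_one_left h]
          exact inv_mem hx'
        have h1 := norm_part hab hB hC hne hxe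
        rw [norm_fixed hx, ← one_pow (Nat.card B)] at h1
        exact hx1 (pow_inj hV hAs hB.1 h1)
      obtain ⟨P, hP, -⟩ := hone _ hxx
      refine ⟨P, fun k hk => fixes_of_fixes_mul hV hab hAs hA hB hC hne hx hx1 hx' hx'1
        (hodd P k hk) (hP hk), fun k hk => ?_⟩
      exact fixes_of_fixes_mul hV hab hAs hA hC hB (Ne.symm hne) hx' hx'1 hx hx1
        (hodd P k hk) (by rw [mul_comm x' x]; exact hP hk)
    have hother : ∀ {D : Subgroup K}, IsPart A D V → D ≠ B →
        ∀ x ∈ fixSub (V := V) D, (P₀ : Subgroup K) ≤ stabilizer K x := by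
      intro D hD hDB x hx
      rcases eq_or_ne x 1 with rfl | hx1
      · exact fun k _ => smul_one k
      obtain ⟨P, h1, h2⟩ := key hB hD (Ne.symm hDB) hv hv1 hx hx1
      rwa [← sylow_unique h1 hP₀n]
    have hall : ∀ D : Subgroup K, IsPart A D V →
        ∀ x ∈ fixSub (V := V) D, (P₀ : Subgroup K) ≤ stabilizer K x := by
      intro D hD x hx
      by_cases hDB : D = B
      · subst hDB
        rcases eq_or_ne x 1 with rfl | hx1
        · exact fun k _ => smul_one k
        obtain ⟨P, h1, h2⟩ := key hB hC hne hx hx1 hw hw1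
        obtain ⟨Q, hQw, hQwn⟩ := hone w hw1
        rwa [sylow_unique (hother hC (Ne.symm hne) w hw) hQwn, ← sylow_unique h2 hQwn]
      · exact hother hD hDB x hx
    set U : Subgroup V := Subgroup.closure {x | ∃ D, IsPart A D V ∧ x ∈ fixSub (V := V) D} with hU
    have hUtop : U = ⊤ := by
      refine (hirr U fun k x hx => ?_).resolve_left fun h => hv1 ?_
      · have hle : U ≤ U.comap (MulDistribMulAction.toMonoidHom V k) := by
          refine (Subgroup.closure_le _).2 ?_
          rintro y ⟨D, hD, hy⟩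
          exact Subgroup.subset_closure ⟨_, isPart_map hA k hD, smul_mem_fixSub k hy⟩
        exact hle hx
      · rw [← Subgroup.mem_bot, ← h]
        exact Subgroup.subset_closure ⟨B, hB, hv⟩
    have htriv : (P₀ : Subgroup K) = ⊥ := by
      refine (Subgroup.eq_bot_iff_forall _).2 fun k hk => hf k fun x => ?_
      have hx : x ∈ U := hUtop ▸ Subgroup.mem_top x
      induction hx using Subgroup.closure_induction with
      | mem y hy =>
        obtain ⟨D, hD, hy⟩ := hy
        exact hall D hD y hy hk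
      | one => exact smul_one k
      | mul a b _ _ ha hb => rw [smul_mul', ha, hb]
      | inv a _ ha => rw [smul_inv', ha]
    exact P₀.ne_bot_of_dvd_card htK htriv
  -- only the identity has fixed points
  have hfix : ∀ (a : A) (v : V), v ≠ 1 → (a : K) • v = v → a = 1 := by
    intro a v hv ha
    have hne : fixSub (V := V) (zpowers (a : K)) ≠ ⊥ := fun h => hv (by
      have : v ∈ fixSub (zpowers (a : K)) := fun b hb => by
        obtain ⟨n, rfl⟩ := mem_zpowers_iff.1 hb
        exact (show (a : K) ^ n ∈ stabilizer K v from zpow_mem ha n)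
      rwa [h, Subgroup.mem_bot] at this)
    obtain ⟨B, haB, hB⟩ := exists_isPart (zpowers_le.2 a.2) hne
    have hBn : B.Normal := ⟨fun b hb k => by
      have := huniq _ B (isPart_map (V := V) hA k hB) hB
      rw [← this]
      exact ⟨b, hb, rfl⟩⟩
    have := eq_bot_of_fixSub_ne_bot hirr hf hBn hB.2.1
    have ha1 : (a : K) ∈ (⊥ : Subgroup K) := this ▸ haB (mem_zpowers _)
    exact Subtype.ext (Subgroup.mem_bot.1 ha1)
  letI : MulDistribMulAction A V := MulDistribMulAction.compHom V A.subtype
  exact BlocksChars5.GagolaQuot.isCyclic_of_fixedPointFree (V := V)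
    (fun a b => hab.is_comm.comm a b) (fun a v hv ha => hfix a v hv ha)

end Cfsg.Agent.Lib.Palfy68
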