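import Cfsg.Agent.Lib.Palfy68.Core
import Cfsg.Agent.Lib.RelDegrees87.Basic

/-!
# The core statement for a possibly unfaithful action
-/

set_option autoImplicit false
set_option linter.unusedSectionVars false

namespace Cfsg.Agent.Lib.Palfy68

open Subgroup MulAction
open Cfsg.Agent.Lib.Characters.Basic Cfsg.Agent.Lib.Clifford.Basic

universe u v

/-- A cyclic group has a faithful linear character. -/
theorem exists_injective_hom (A : Type u) [Group A] [Finite A] [IsCyclic A] :
    ∃ μ : A →* ℂˣ, Function.Injective μ := by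
  haveI : NeZero (Nat.card A) := ⟨Nat.card_pos.ne'⟩
  have hc : Nat.card A = Nat.card (rootsOfUnity (Nat.card A) ℂ) := by
    rw [Complex.card_rootsOfUnity]
  exact ⟨(rootsOfUnity (Nat.card A) ℂ).subtype.comp (mulEquivOfCyclicCardEq hc).toMonoidHom,
    (Subgroup.subtype_injective _).comp (mulEquivOfCyclicCardEq hc).injective⟩

/-- Some degree is a multiple of the index of the centraliser of a normal cyclic subgroup. -/
theorem exists_degree_dvd_cyclic {K : Type u} [Group K] [Finite K] (A : Subgroup K) [A.Normal]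
    [IsCyclic A] : ∃ χ : Cfsg.IrrCharacter K,
      (centralizer (A : Set K)).index ∣ Cfsg.charDegree (χ : K → ℂ) := by
  classical
  haveI := Fintype.ofFinite K
  haveI := Fintype.ofFinite A
  obtain ⟨μ, hμ⟩ := exists_injective_hom A
  obtain ⟨χ, hχ⟩ := RelDegrees87.Basic.exists_over A (RelDegrees87.Basic.lin A μ)
  obtain ⟨e, -, -, hdeg⟩ := RelDegrees87.Basic.degree_eq A hχ
  refine ⟨χ, ?_⟩
  rw [hdeg, RelDegrees87.Basic.deg_lin, mul_one]
  refine Dvd.dvd.mul_left ?_ e
  refine Subgroup.index_dvd_of_le fun g hg => mem_centralizer_iff.2 fun a ha => ?_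
  rw [RelDegrees87.Basic.coe_lin, RelDegrees87.Basic.inertia_L] at hg
  have h1 := DFunLike.congr_fun hg ⟨a, ha⟩
  rw [RelDegrees87.Basic.cH_apply] at h1
  have h2 := congrArg Subtype.val (hμ h1)
  simp only [MulAut.conjNormal_apply] at h2
  calc a * g = g * a * g⁻¹ * g := by rw [h2]
    _ = g * a := by group

variable {H : Type u} [Group H] [Finite H] {V : Type v} [CommGroup V] [Finite V]

/-- Stabiliser of a point. -/
def stab (ρ : H →* MulAut V) (v : V) : Subgroup H where
  carrier := {h | ρ h v = v}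
  one_mem' := by simp
  mul_mem' := fun {a b} ha hb => by
    show ρ (a * b) v = v
    rw [map_mul, MulAut.mul_apply, show ρ b v = v from hb, show ρ a v = v from ha]
  inv_mem' := fun {a} ha => by
    show ρ a⁻¹ v = v
    rw [map_inv]
    exact (ρ a).symm_apply_eq.2 (show v = ρ a v from ha.symm)

theorem mem_stab {ρ : H →* MulAut V} {v : V} {h : H} : h ∈ stab ρ v ↔ ρ h v = v := Iff.rfl

/-- Every nontrivial point has stabiliser with a normal Sylow `y`-subgroup of `H`. -/
def OneSylow (ρ : H →* MulAut V) (y : ℕ) : Prop :=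
  ∀ v : V, v ≠ 1 → ∃ P : Sylow y H, (P : Subgroup H) ≤ stab ρ v ∧
    stab ρ v ≤ normalizer ((P : Subgroup H) : Set H)

theorem one_unique {ρ : H →* MulAut V} {y : ℕ} [Fact y.Prime] {v : V} {P Q : Sylow y H}
    (hP : (P : Subgroup H) ≤ stab ρ v)
    (hQ : stab ρ v ≤ normalizer ((Q : Subgroup H) : Set H)) : P = Q := by
  have h1 : IsPGroup y ↥((P : Subgroup H) ⊔ (Q : Subgroup H)) :=
    IsPGroup.to_sup_of_normal_right' P.2 Q.2 (hP.trans hQ)
  have h2 := P.3 h1 le_sup_left
  exact Sylow.ext (Q.3 P.2 (h2 ▸ le_sup_right))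

theorem normal_of_le_ker (ρ : H →* MulAut V) {y : ℕ} [Fact y.Prime] [Nontrivial V] (hy : OneSylow ρ y)
    (hker : ∀ P : Sylow y H, (P : Subgroup H) ≤ ρ.ker) :
    ∃ P : Sylow y H, (P : Subgroup H).Normal ∧ (P : Subgroup H) ≤ ρ.ker := by
  obtain ⟨v, hv⟩ := exists_ne (1 : V)
  obtain ⟨P, -, hPn⟩ := hy v hv
  have hle : ρ.ker ≤ stab ρ v := fun h hh => by
    rw [mem_stab, MonoidHom.mem_ker.1 hh]
    rfl
  haveI : Subsingleton (Sylow y H) := ⟨fun Q R => by
    rw [one_unique ((hker Q).trans hle) hPn, one_unique ((hker R).trans hle) hPn]⟩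
  exact ⟨P, P.normal_of_subsingleton, hker P⟩

/-- OneSylow of the two Sylow subgroups is normal and acts trivially. -/
theorem core_image [Group.IsSolvable H] [Nontrivial V] {s : ℕ} [Fact s.Prime]
    (hVs : ∀ v : V, v ^ s = 1) (ρ : H →* MulAut V)
    (hirr : ∀ U : Subgroup V, (∀ h : H, ∀ x ∈ U, ρ h x ∈ U) → U = ⊥ ∨ U = ⊤)
    {y z : ℕ} [Fact y.Prime] [Fact z.Prime] (hyz : y ≠ z) (hy : OneSylow ρ y) (hz : OneSylow ρ z)
    (hdeg : ∀ χ : Cfsg.IrrCharacter H, ¬ y * z ∣ Cfsg.charDegree (χ : H → ℂ)) :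
    (∃ P : Sylow y H, (P : Subgroup H).Normal ∧ (P : Subgroup H) ≤ ρ.ker) ∨
      (∃ P : Sylow z H, (P : Subgroup H).Normal ∧ (P : Subgroup H) ≤ ρ.ker) := by
  classical
  haveI : Finite (MulAut V) := Finite.of_injective (fun e : MulAut V => (e : V → V)) DFunLike.coe_injective
  set π := ρ.rangeRestrict with hπ
  have hπs : Function.Surjective π := ρ.rangeRestrict_surjective
  letI : MulDistribMulAction ρ.range V := MulDistribMulAction.compHom V ρ.range.subtype
  have hsmul : ∀ (k : ρ.range) (v : V), k • v = (k : MulAut V) v := fun _ _ => rfl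
  haveI : Group.IsSolvable ρ.range := solvable_of_surjective hπs
  have hf : ∀ k : ρ.range, (∀ v : V, k • v = v) → k = 1 := fun k hk =>
    Subtype.ext (MulEquiv.ext fun v => (hsmul k v).symm.trans (hk v))
  have hirr' : Irred ρ.range V := fun U hU => hirr U fun h x hx => hU (π h) x hx
  have honeimg : ∀ {w : ℕ} [Fact w.Prime], OneSylow ρ w → OnePoint ρ.range V w := by
    intro w _ hw v hv
    obtain ⟨P, hP, hPn⟩ := hw v hv
    refine ⟨P.mapSurjective hπs, ?_, ?_⟩
    · rintro _ ⟨g, hg, rfl⟩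
      exact hP hg
    · intro k hk
      obtain ⟨g, rfl⟩ := hπs k
      rw [Sylow.coe_mapSurjective]
      exact Subgroup.le_normalizer_map π (mem_map_of_mem π (hPn (show g ∈ stab ρ v from hk)))
  have hcy : ∀ A : Subgroup ρ.range, A.Normal → IsCyclic A →
      ¬ y * z ∣ (centralizer (A : Set ρ.range)).index := by
    intro A hA hAc hdvd
    haveI := hA
    obtain ⟨χ, hχ⟩ := exists_degree_dvd_cyclic A
    refine hdeg ⟨(χ : ρ.range → ℂ) ∘ π, isIrrCharacter_comp π hπs χ.2⟩ (hdvd.trans (hχ.trans ?_))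
    rw [BlocksChars5.Basic.charDegree_congr (f := (χ : ρ.range → ℂ) ∘ π) (f' := (χ : ρ.range → ℂ))
      (by rw [Function.comp_apply, map_one])]
  have hker : ∀ {w : ℕ} [Fact w.Prime], ¬ w ∣ Nat.card ρ.range →
      ∀ P : Sylow w H, (P : Subgroup H) ≤ ρ.ker := fun {w} _ hw P =>
    (sylow_le_iff _ P).2 (by rwa [Subgroup.index_ker])
  rcases core hVs hirr' hf hyz (honeimg hy) (honeimg hz) hcy with h | h
  · exact Or.inl (normal_of_le_ker ρ hy (hker h))
  · exact Or.inr (normal_of_le_ker ρ hz (hker h))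

end Cfsg.Agent.Lib.Palfy68
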