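import Cfsg.Agent.Lib.Palfy68.ClassTwo

/-!
# A Sylow subgroup centralising the cyclic part centralises the whole `l`-core

An elementary abelian subgroup with a fixed point is centralised by the Sylow subgroup at that
point; this forces a Sylow `y`-subgroup centralising `A` to centralise `E`.
-/

set_option autoImplicit false
set_option linter.unusedSectionVars false

namespace Cfsg.Agent.Lib.Palfy68

open Subgroup MulAction
open scoped commutatorElement

universe u v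

variable {K : Type u} [Group K] [Finite K]

namespace MaxCyc

variable {l : ℕ} {E A : Subgroup K}

/-- Commutative, above `A`, and of exponent `l` up to `A`. -/
def Good (l : ℕ) (E A X : Subgroup K) : Prop :=
  A ≤ X ∧ X ≤ cent E A ∧ (∀ a ∈ X, ∀ b ∈ X, a * b = b * a) ∧ ∀ x ∈ X, ∃ a ∈ A, (x * a) ^ l = 1

theorem good_self (h : MaxCyc K l E A) : Good l E A A :=
  ⟨le_rfl, h.le_cent, fun _ ha _ hb => h.comm ha hb,
    fun x hx => ⟨x⁻¹, inv_mem hx, by rw [mul_inv_cancel, one_pow]⟩⟩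

theorem good_sup (h : MaxCyc K l E A) {X : Subgroup K} (hX : Good l E A X) {q : K}
    (hq : q ∈ cent E A) (hcomm : ∀ x ∈ X, x * q = q * x) (hwit : ∃ a ∈ A, (q * a) ^ l = 1) :
    Good l E A (X ⊔ zpowers q) := by
  obtain ⟨hAX, hXc, hXX, hXw⟩ := hX
  obtain ⟨a, ha, hqa⟩ := hwit
  have hle : X ⊔ zpowers q ≤ cent E A := sup_le hXc (zpowers_le.2 hq)
  let T : Subgroup K :=
    { carrier := {z | ∃ x ∈ X, ∃ j : ℤ, z = x * q ^ j}
      one_mem' := ⟨1, one_mem _, 0, by simp⟩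
      mul_mem' := by
        rintro _ _ ⟨x, hx, i, rfl⟩ ⟨x', hx', j, rfl⟩
        refine ⟨x * x', mul_mem hx hx', i + j, ?_⟩
        have hc : Commute (q ^ i) x' := Commute.zpow_left (hcomm x' hx').symm i
        calc x * q ^ i * (x' * q ^ j) = x * (q ^ i * x') * q ^ j := by group
          _ = x * x' * q ^ (i + j) := by rw [hc.eq, zpow_add]; group
      inv_mem' := by
        rintro _ ⟨x, hx, i, rfl⟩
        refine ⟨x⁻¹, inv_mem hx, -i, ?_⟩
        have hc : Commute (q ^ (-i)) x⁻¹ := (Commute.zpow_left (hcomm x hx).symm _).inv_right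
        rw [mul_inv_rev, ← zpow_neg, hc.eq] }
  have hT : ∀ z ∈ X ⊔ zpowers q, ∃ x ∈ X, ∃ j : ℤ, z = x * q ^ j := by
    intro z hz
    have h2 : X ⊔ zpowers q ≤ T := sup_le (fun x hx => ⟨x, hx, 0, by simp⟩)
      (zpowers_le.2 ⟨1, one_mem _, 1, by simp⟩)
    exact h2 hz
  refine ⟨hAX.trans le_sup_left, hle, ?_, ?_⟩
  · intro z hz z' hz'
    obtain ⟨x, hx, i, rfl⟩ := hT z hz
    obtain ⟨x', hx', j, rfl⟩ := hT z' hz'
    have c1 : Commute x x' := hXX x hx x' hx'
    have c2 : Commute x (q ^ j) := Commute.zpow_right (hcomm x hx) j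
    have c3 : Commute (q ^ i) x' := Commute.zpow_left (hcomm x' hx').symm i
    exact ((c1.mul_right c2).mul_left (c3.mul_right ((Commute.refl q).zpow_zpow i j))).eq
  · intro z hz
    obtain ⟨x, hx, j, rfl⟩ := hT z hz
    obtain ⟨b, hb, hxb⟩ := hXw x hx
    refine ⟨a ^ j * b, mul_mem (zpow_mem ha j) hb, ?_⟩
    have hqA : ∀ c ∈ A, Commute c q := fun c hc => comm_cent hq hc
    have c0 : Commute (q ^ j) b := Commute.zpow_left (hqA b hb).symm j
    have c1 : (q * a) ^ j = q ^ j * a ^ j := (hqA a ha).symm.mul_zpow j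
    have e : x * q ^ j * (a ^ j * b) = (x * b) * (q * a) ^ j := by
      rw [c1]
      have c4 : Commute b (q ^ j * a ^ j) :=
        (c0.symm).mul_right ((show Commute b a from h.comm hb ha).zpow_right j)
      calc x * q ^ j * (a ^ j * b) = x * ((q ^ j * a ^ j) * b) := by group
        _ = x * b * (q ^ j * a ^ j) := by rw [← c4.eq]; group
    rw [e]
    have c5 : Commute (x * b) ((q * a) ^ j) := by
      refine Commute.zpow_right ?_ j
      exact Commute.mul_left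
        (Commute.mul_right (hcomm x hx) (hXX x hx a (hAX ha)))
        (Commute.mul_right (hqA b hb) (h.comm hb ha))
    rw [c5.mul_pow, hxb, one_mul, ← zpow_natCast, ← zpow_mul, mul_comm, zpow_mul, zpow_natCast,
      hqa, one_zpow]

theorem exists_max_good (h : MaxCyc K l E A) {X : Subgroup K} (hX : Good l E A X) :
    ∃ M, X ≤ M ∧ Good l E A M ∧ ∀ q ∈ cent E A, (∀ m ∈ M, m * q = q * m) →
      (∃ a ∈ A, (q * a) ^ l = 1) → q ∈ M := by
  obtain ⟨M, ⟨hXM, hM⟩, hmax⟩ :=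
    (Set.toFinite {M | X ≤ M ∧ Good l E A M}).exists_maximal ⟨X, le_rfl, hX⟩
  exact ⟨M, hXM, hM, fun q hq hc hw =>
    hmax ⟨hXM.trans le_sup_left, h.good_sup hM hq hc hw⟩ le_sup_left
      ((le_sup_right : zpowers q ≤ M ⊔ zpowers q) (mem_zpowers q))⟩

/-- The commutator term is an `l`-th power in `A`. -/
theorem exists_root (h : MaxCyc K l E A) (hbig : l ≠ 2 ∨ 2 < Nat.card A) {c : K} (hc : c ∈ A)
    (hcl : c ^ l = 1) : ∃ d ∈ A, d ^ l = c ^ l.choose 2 := by
  by_cases hl : l = 2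
  · subst hl
    have h4 : 2 < Nat.card A := hbig.resolve_left (· rfl)
    haveI := h.cyclic
    haveI := Fact.mk h.prime
    obtain ⟨g, hg⟩ := IsCyclic.exists_generator (α := A)
    obtain ⟨j, hj⟩ := mem_zpowers_iff.1 (hg ⟨c, hc⟩)
    have hord : orderOf g = Nat.card A := orderOf_eq_card_of_forall_mem_zpowers hg
    obtain ⟨n, hn⟩ := IsPGroup.iff_card.1 (h.pgroup.to_le h.le)
    have h1 : g ^ (j * 2) = 1 := by
      rw [zpow_mul, hj, zpow_ofNat]
      exact Subtype.ext hcl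
    have h2 : (orderOf g : ℤ) ∣ j * 2 := orderOf_dvd_iff_zpow_eq_one.2 h1
    have h3 : (4 : ℤ) ∣ j * 2 := by
      refine Dvd.dvd.trans ?_ h2
      rw [hord, hn]
      rcases n with _ | _ | m
      · simp [hn] at h4
      · simp [hn] at h4
      · push_cast; exact ⟨2 ^ m, by ring⟩
    obtain ⟨i, rfl⟩ : (2 : ℤ) ∣ j := by omega
    refine ⟨((g ^ i : A) : K), (g ^ i).2, ?_⟩
    rw [show Nat.choose 2 2 = 1 from rfl, pow_one, ← SubmonoidClass.coe_pow, ← zpow_natCast,
      ← zpow_mul, mul_comm i _, show ((2 : ℕ) : ℤ) * i = 2 * i from rfl, hj]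
  · refine ⟨1, one_mem _, ?_⟩
    rw [one_pow]
    have h2 : l ∣ l.choose 2 := h.prime.dvd_choose_self two_ne_zero
      (lt_of_le_of_ne h.prime.two_le (Ne.symm hl))
    exact (orderOf_dvd_iff_pow_eq_one.1 ((orderOf_dvd_iff_pow_eq_one.2 hcl).trans h2)).symm

/-- Elements of exponent `l` up to `A` are closed under products. -/
theorem wit_mul (h : MaxCyc K l E A) (hbig : l ≠ 2 ∨ 2 < Nat.card A) {e f : K}
    (he : e ∈ cent E A) (hf : f ∈ cent E A) {a b : K} (ha : a ∈ A) (hb : b ∈ A)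
    (hea : (e * a) ^ l = 1) (hfb : (f * b) ^ l = 1) : ∃ d ∈ A, (e * f * d) ^ l = 1 := by
  have hx : e * a ∈ cent E A := mul_mem he (h.le_cent ha)
  have hy : f * b ∈ cent E A := mul_mem hf (h.le_cent hb)
  obtain ⟨hcA, hcl⟩ := h.comm_mem hy hx
  obtain ⟨d, hd, hdl⟩ := h.exists_root hbig hcA hcl
  refine ⟨a * b * d⁻¹, mul_mem (mul_mem ha hb) (inv_mem hd), ?_⟩
  have hcd : Commute (e * a * (f * b)) d⁻¹ := (comm_cent (mul_mem hx hy) (inv_mem hd)).symm
  have e1 : e * f * (a * b * d⁻¹) = e * a * (f * b) * d⁻¹ := by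
    calc e * f * (a * b * d⁻¹) = e * (f * a) * b * d⁻¹ := by group
      _ = e * a * (f * b) * d⁻¹ := by rw [← comm_cent hf ha]; group
  rw [e1, hcd.mul_pow, h.pow_formula hx hy, hea, hfb, inv_pow, hdl, one_mul, one_mul,
    mul_inv_cancel]

/-- A self-centralising good subgroup when `l` is odd or `A` has order above two. -/
theorem exists_self_centralizing (h : MaxCyc K l E A) (hbig : l ≠ 2 ∨ 2 < Nat.card A) :
    ∃ M, Good l E A M ∧ ∀ q ∈ cent E A, (∀ m ∈ M, m * q = q * m) → q ∈ M := by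
  haveI := Fact.mk h.prime
  let H : Subgroup K :=
    { carrier := {e | e ∈ cent E A ∧ ∃ a ∈ A, (e * a) ^ l = 1}
      one_mem' := ⟨one_mem _, 1, one_mem _, by simp⟩
      mul_mem' := by
        rintro e f ⟨he, a, ha, hea⟩ ⟨hf, b, hb, hfb⟩
        exact ⟨mul_mem he hf, h.wit_mul hbig he hf ha hb hea hfb⟩
      inv_mem' := by
        rintro e ⟨he, a, ha, hea⟩
        refine ⟨inv_mem he, a⁻¹, inv_mem ha, ?_⟩
        rw [← mul_inv_rev, inv_pow, comm_cent he ha, hea, inv_one] }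
  have hAH : A ≤ H := fun x hx => ⟨h.le_cent hx, x⁻¹, inv_mem hx, by rw [mul_inv_cancel, one_pow]⟩
  have hHc : H ≤ cent E A := fun x hx => hx.1
  -- modulo `H` the centraliser is cyclic of order at most `l`
  have hcos : ∀ g ∈ cent E A, g ∉ H → ∀ e ∈ cent E A, ∃ x ∈ H, ∃ j : ℕ, e = x * g ^ j := by
    intro g hg hgH e he
    classical
    haveI := h.cyclic
    obtain ⟨γ, hγ⟩ := IsCyclic.exists_generator (α := A)
    obtain ⟨i, hi⟩ := (mem_zpowers_iff_mem_range_orderOf.1 (hγ ⟨g ^ l, h.pow_mem_A hg⟩) |>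
      Finset.mem_image.1)
    obtain ⟨j, hj⟩ := (mem_zpowers_iff_mem_range_orderOf.1 (hγ ⟨e ^ l, h.pow_mem_A he⟩) |>
      Finset.mem_image.1)
    have hnd : ¬ l ∣ i := by
      rintro ⟨k, rfl⟩
      apply hgH
      refine ⟨hg, ((γ : K) ^ k)⁻¹, inv_mem (pow_mem γ.2 k), ?_⟩
      have hc : Commute g ((γ : K) ^ k)⁻¹ := (comm_cent hg (inv_mem (pow_mem γ.2 k))).symm
      rw [hc.mul_pow, inv_pow, ← pow_mul, mul_comm k l]
      have := congrArg (fun t : A => (t : K)) hi.2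
      simp only [SubmonoidClass.coe_pow] at this
      rw [this, mul_inv_cancel]
    obtain ⟨n, hn⟩ := IsPGroup.iff_card.1 (h.pgroup.to_le h.le)
    have hco : Nat.Coprime i (orderOf γ) := by
      rw [orderOf_eq_card_of_forall_mem_zpowers hγ, hn]
      exact Nat.Coprime.pow_right n ((h.prime.coprime_iff_not_dvd.2 hnd).symm)
    obtain ⟨m, hm⟩ := Nat.exists_mul_mod_eq_one_of_coprime hco |>
      fun (hh : 1 < orderOf γ → _) => (show ∃ m, γ ^ (i * m) = γ from by
        by_cases h1 : orderOf γ = 1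
        · exact ⟨0, by rw [orderOf_eq_one_iff.1 h1, one_pow]⟩
        obtain ⟨m, -, hm⟩ := hh (by have := orderOf_pos γ; omega)
        exact ⟨m, by rw [← pow_mod_orderOf, hm, pow_one]⟩)
    have hgi : ((γ : K) ^ i) = g ^ l := by
      have := congrArg (fun t : A => (t : K)) hi.2
      simpa using this
    have hej : ((γ : K) ^ j) = e ^ l := by
      have := congrArg (fun t : A => (t : K)) hj.2
      simpa using this
    have hm' : (γ : K) ^ (i * m) = (γ : K) := by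
      have := congrArg (fun t : A => (t : K)) hm
      simpa using this
    -- `e' := e g^(-mj)`
    refine ⟨e * (g ^ (m * j))⁻¹, ⟨mul_mem he (inv_mem (pow_mem hg _)), ?_⟩, m * j, by group⟩
    have hy : (g ^ (m * j))⁻¹ ∈ cent E A := inv_mem (pow_mem hg _)
    obtain ⟨hcA, hcl⟩ := h.comm_mem hy he
    obtain ⟨d, hd, hdl⟩ := h.exists_root hbig hcA hcl
    refine ⟨d⁻¹, inv_mem hd, ?_⟩
    have hcd : Commute (e * (g ^ (m * j))⁻¹) d⁻¹ := (comm_cent (mul_mem he hy) (inv_mem hd)).symm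
    have hgl : (g ^ (m * j)) ^ l = e ^ l := by
      rw [← pow_mul, mul_comm, pow_mul, ← hgi, ← pow_mul, ← mul_assoc, pow_mul, hm', hej]
    rw [hcd.mul_pow, h.pow_formula he hy, inv_pow, hgl, mul_inv_cancel, one_mul, inv_pow, hdl,
      mul_inv_cancel]
  by_cases hH : H = cent E A
  · obtain ⟨M, -, hM, hmax⟩ := h.exists_max_good h.good_self
    exact ⟨M, hM, fun q hq hc => hmax q hq hc (hH.symm ▸ hq : q ∈ H).2⟩
  obtain ⟨w, hw, hwA⟩ : ∃ w ∈ cent E A ⊓ centralizer (H : Set K), w ∉ A := by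
    by_contra hcon
    push Not at hcon
    exact hH (h.centralizer_eq_bot_index hAH hHc (le_antisymm hcon
      (le_inf h.le_cent fun a ha => mem_centralizer_iff.2 fun x hx =>
        (comm_cent (hHc hx) ha).symm)))
  have hwH : w ∈ H := by
    by_contra hwH
    refine hwA (h.center_cent hw.1 fun f hf => ?_)
    obtain ⟨x, hx, j, rfl⟩ := hcos w hw.1 hwH f hf
    exact (Commute.mul_left (mem_centralizer_iff.1 hw.2 x hx) ((Commute.refl w).pow_left j)).eq
  obtain ⟨M, hwM, hM, hmax⟩ := h.exists_max_good (h.good_sup h.good_self hw.1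
    (fun a ha => comm_cent hw.1 ha) hwH.2)
  refine ⟨M, hM, fun q hq hc => ?_⟩
  by_cases hqH : q ∈ H
  · exact hmax q hq hc hqH.2
  refine absurd (h.center_cent hw.1 fun f hf => ?_) hwA
  obtain ⟨x, hx, j, rfl⟩ := hcos q hq hqH f hf
  have hwq : Commute q w := (hc w (hwM ((le_sup_right : zpowers w ≤ A ⊔ zpowers w)
    (mem_zpowers w)))).symm
  exact (Commute.mul_left (mem_centralizer_iff.1 hw.2 x hx) (hwq.pow_left j)).eq

/-- A coprime element centralising the difference of an element centralises the element. -/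
theorem eq_of_diff {k f : K} {m : ℕ} (hk : k ^ m = 1) (hcop : ∀ q : K, q ∈ E → q ^ m = 1 → q = 1)
    (hq : f⁻¹ * (k * f * k⁻¹) ∈ E) (hkq : k * (f⁻¹ * (k * f * k⁻¹)) = f⁻¹ * (k * f * k⁻¹) * k) :
    k * f = f * k := by
  set q := f⁻¹ * (k * f * k⁻¹) with hqdef
  have key : ∀ n : ℕ, k ^ n * f * (k ^ n)⁻¹ = f * q ^ n := by
    intro n
    induction n with
    | zero => simp
    | succ n ih =>
      have e : k * q ^ n * k⁻¹ = q ^ n := by
        rw [(Commute.pow_right hkq n).eq, mul_inv_cancel_right]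
      calc k ^ (n + 1) * f * (k ^ (n + 1))⁻¹ = k * (k ^ n * f * (k ^ n)⁻¹) * k⁻¹ := by
            rw [pow_succ']; group
        _ = (k * f * k⁻¹) * (k * q ^ n * k⁻¹) := by rw [ih]; group
        _ = f * q ^ (n + 1) := by
          have hfq : k * f * k⁻¹ = f * q := by rw [hqdef]; group
          rw [e, hfq, pow_succ', mul_assoc]
  have h1 := key m
  rw [hk, inv_one, mul_one, one_mul] at h1
  have hq1 : q = 1 := hcop q hq (mul_left_cancel (a := f) (h1.symm.trans (mul_one f).symm))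
  calc k * f = f * q * k := by rw [hqdef]; group
    _ = f * k := by rw [hq1, mul_one]

section

variable {y : ℕ} [Fact y.Prime]

theorem coprime_pow (h : MaxCyc K l E A) (hyl : y ≠ l) (n : ℕ) (q : K) (hq : q ∈ E)
    (hqn : q ^ y ^ n = 1) : q = 1 := by
  obtain ⟨i, hi⟩ := h.pgroup ⟨q, hq⟩
  have hi' : q ^ l ^ i = 1 := congrArg Subtype.val hi
  have hc : Nat.Coprime (y ^ n) (l ^ i) :=
    Nat.Coprime.pow _ _ ((Nat.coprime_primes Fact.out h.prime).2 hyl)
  exact orderOf_eq_one_iff.1 (Nat.eq_one_of_dvd_coprimes hc (orderOf_dvd_iff_pow_eq_one.2 hqn)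
    (orderOf_dvd_iff_pow_eq_one.2 hi'))

/-- A good subgroup whose centraliser is centralised by `y`-elements centralising it. -/
theorem exists_frame (h : MaxCyc K l E A) (hyl : y ≠ l)
    (hexc : ¬ (l = 2 ∧ Nat.card A ≤ 2 ∧ y = 3)) :
    ∃ M, Good l E A M ∧ ∀ (k : K) (n : ℕ), k ^ y ^ n = 1 → (∀ m ∈ M, k * m = m * k) →
      ∀ q ∈ cent E A, (∀ m ∈ M, m * q = q * m) → k * q = q * k := by
  by_cases hbig : l ≠ 2 ∨ 2 < Nat.card A
  · obtain ⟨M, hM, hself⟩ := h.exists_self_centralizing hbig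
    exact ⟨M, hM, fun k n _ hkM q hq hc => hkM q (hself q hq hc)⟩
  push Not at hbig
  obtain ⟨rfl, hA2⟩ := hbig
  have hy5 : 5 ≤ y := by
    have hy : y.Prime := Fact.out
    have h3 : y ≠ 3 := fun e => hexc ⟨rfl, hA2, e⟩
    have := hy.two_le
    rcases eq_or_ne y 4 with rfl | h4
    · exact absurd hy (by norm_num)
    omega
  obtain ⟨M, -, hM, hmax⟩ := h.exists_max_good h.good_self
  obtain ⟨hAM, hMc, hMM, hMw⟩ := hM
  refine ⟨M, ⟨hAM, hMc, hMM, hMw⟩, fun k n hk hkM q₀ hq₀ hc₀ => ?_⟩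
  set Q := cent E A ⊓ centralizer (M : Set K) with hQ
  have hsq : ∀ q ∈ Q, q ∉ M → q ^ 2 ≠ 1 := fun q hq hqM h2 => hqM (hmax q hq.1
    (mem_centralizer_iff.1 hq.2) ⟨1, one_mem _, by rw [mul_one]; exact h2⟩)
  have hA1 : ∀ {a b : K}, a ∈ A → b ∈ A → a ≠ 1 → b ≠ 1 → a = b := by
    intro a b ha hb ha1 hb1
    by_contra hab
    classical
    have := Fintype.ofFinite A
    have h3 : ({⟨1, one_mem _⟩, ⟨a, ha⟩, ⟨b, hb⟩} : Finset A).card = 3 := by
      rw [Finset.card_insert_of_notMem, Finset.card_pair] <;> simp [Subtype.ext_iff, ha1, hb1, hab,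
        Ne.symm ha1, Ne.symm hb1]
    have := Finset.card_le_univ ({⟨1, one_mem _⟩, ⟨a, ha⟩, ⟨b, hb⟩} : Finset A)
    rw [← Nat.card_eq_fintype_card] at this
    omega
  have hMn : ∀ x ∈ M, x ∈ Q := fun x hx => ⟨hMc hx, mem_centralizer_iff.2 fun m hm => hMM m hm x hx⟩
  have hanti : ∀ q ∈ Q, ∀ q' ∈ Q, q ∉ M → q' ∉ M → q⁻¹ * q' ∉ M → ⁅q, q'⁆ ≠ 1 := by
    intro q hq q' hq' hqM hq'M hne hcc
    have hcm : Commute q q' := commutatorElement_eq_one_iff_mul_comm.1 hcc
    have e : q ^ 2 = q' ^ 2 :=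
      hA1 (h.pow_mem_A hq.1) (h.pow_mem_A hq'.1) (hsq q hq hqM) (hsq q' hq' hq'M)
    refine hsq (q⁻¹ * q') (mul_mem (inv_mem hq) hq') hne ?_
    rw [(hcm.inv_left).mul_pow, inv_pow, e, inv_mul_cancel]
  -- a third coset is the product of two
  have hthird : ∀ a ∈ Q, ∀ b ∈ Q, ∀ c ∈ Q, a ∉ M → b ∉ M → c ∉ M → a⁻¹ * b ∉ M → a⁻¹ * c ∉ M →
      b⁻¹ * c ∉ M → (a * b)⁻¹ * c ∈ M := by
    intro a ha b hb c hc haM hbM hcM hab hac hbc
    by_contra hne
    have habM : a * b ∉ M := by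
      intro hm
      apply hab
      have ha2 : a ^ 2 ∈ M := hAM (h.pow_mem_A ha.1)
      have : a⁻¹ * b = (a ^ 2)⁻¹ * (a * b) := by group
      rw [this]
      exact mul_mem (inv_mem ha2) hm
    apply hanti (a * b) (mul_mem ha hb) c hc habM hcM hne
    have h1 : ⁅a, c⁆ = ⁅b, c⁆ := hA1 (h.comm_mem ha.1 hc.1).1 (h.comm_mem hb.1 hc.1).1
      (hanti a ha c hc haM hcM hac) (hanti b hb c hc hbM hcM hbc)
    have h2 : a * ⁅b, c⁆ = ⁅b, c⁆ * a := (comm_cent ha.1 (h.comm_mem hb.1 hc.1).1).symm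
    calc ⁅a * b, c⁆ = a * ⁅b, c⁆ * a⁻¹ * ⁅a, c⁆ := by simp only [commutatorElement_def]; group
      _ = ⁅b, c⁆ * ⁅a, c⁆ := by rw [h2]; group
      _ = 1 := by
        rw [h1, ← pow_two]
        exact (h.comm_mem hb.1 hc.1).2
  have hq₀Q : q₀ ∈ Q := ⟨hq₀, mem_centralizer_iff.2 hc₀⟩
  by_cases hq₀M : q₀ ∈ M
  · exact hkM q₀ hq₀M
  let o : ℕ → K := fun i => k ^ i * q₀ * (k ^ i)⁻¹
  have hoQ : ∀ i, o i ∈ Q := fun i => by
    refine ⟨h.cent_normal.conj_mem _ hq₀ _, mem_centralizer_iff.2 fun m hm => ?_⟩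
    have c1 : Commute (k ^ i) m := Commute.pow_left (hkM m hm) i
    have c2 : Commute m q₀ := hc₀ m hm
    exact ((c1.symm.mul_right c2).mul_right c1.symm.inv_right).eq
  have hoM : ∀ i, o i ∉ M := fun i hi => hq₀M (by
    have c1 : Commute (k ^ i) (o i) := Commute.pow_left (hkM _ hi) i
    have : q₀ = (k ^ i)⁻¹ * o i * k ^ i := by simp only [o]; group
    rw [this, c1.inv_left.eq, inv_mul_cancel_right]
    exact hi)
  obtain ⟨i, j, hij, hj, hM'⟩ : ∃ i j : ℕ, i < j ∧ j ≤ 3 ∧ (o i)⁻¹ * o j ∈ M := by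
    by_contra hcon
    push Not at hcon
    have h2 := hthird _ (hoQ 0) _ (hoQ 1) _ (hoQ 2) (hoM 0) (hoM 1) (hoM 2)
      (hcon 0 1 (by omega) (by omega)) (hcon 0 2 (by omega) (by omega))
      (hcon 1 2 (by omega) (by omega))
    have h3 := hthird _ (hoQ 0) _ (hoQ 1) _ (hoQ 3) (hoM 0) (hoM 1) (hoM 3)
      (hcon 0 1 (by omega) (by omega)) (hcon 0 3 (by omega) (by omega))
      (hcon 1 3 (by omega) (by omega))
    refine hcon 2 3 (by omega) (by omega) ?_
    have : (o 2)⁻¹ * o 3 = ((o 0 * o 1)⁻¹ * o 2)⁻¹ * ((o 0 * o 1)⁻¹ * o 3) := by group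
    rw [this]
    exact mul_mem (inv_mem h2) h3
  have hshift : ∀ i j r : ℕ, (o i)⁻¹ * o j ∈ M → (o (i + r))⁻¹ * o (j + r) ∈ M := by
    intro i j r hm
    have c1 : Commute (k ^ r) ((o i)⁻¹ * o j) := Commute.pow_left (hkM _ hm) r
    have e : (o (i + r))⁻¹ * o (j + r) = k ^ r * ((o i)⁻¹ * o j) * (k ^ r)⁻¹ := by
      simp only [o, add_comm i r, add_comm j r, pow_add]; group
    rw [e, c1.eq, mul_inv_cancel_right]
    exact hm
  -- translate down to the origin
  set d := j - i with hd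
  set N := y ^ n with hN
  have hper : ∀ i, o (i + N) = o i := fun i => by
    simp only [o, pow_add, hk, mul_one]
  have hd0 : (o 0)⁻¹ * o d ∈ M := by
    have h1 := hshift i j (N * i - i) hM'
    have hN1 : i ≤ N * i := Nat.le_mul_of_pos_left i (pow_pos (Nat.Prime.pos Fact.out) n)
    have hmul : ∀ a m, o (a + N * m) = o a := by
      intro a m
      induction m with
      | zero => simp
      | succ m ih => rw [Nat.mul_succ, ← add_assoc, hper, ih]
    rw [show i + (N * i - i) = 0 + N * i by omega,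
      show j + (N * i - i) = d + N * i by omega, hmul, hmul] at h1
    exact h1
  have hmulti : ∀ m, (o 0)⁻¹ * o (m * d) ∈ M := by
    intro m
    induction m with
    | zero => simp
    | succ m ih =>
      have h1 := hshift 0 d (m * d) hd0
      rw [Nat.zero_add, show d + m * d = (m + 1) * d by ring] at h1
      have : (o 0)⁻¹ * o ((m + 1) * d) = ((o 0)⁻¹ * o (m * d)) * ((o (m * d))⁻¹ * o ((m + 1) * d)) := by
        group
      rw [this]
      exact mul_mem ih h1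
  have hcop : Nat.Coprime d N := by
    refine Nat.Coprime.pow_right n ?_
    exact ((Nat.Prime.coprime_iff_not_dvd Fact.out).2 fun hdiv => by
      have := Nat.le_of_dvd (by omega) hdiv; omega).symm
  have ho1 : (o 0)⁻¹ * o 1 ∈ M := by
    rcases Nat.eq_zero_or_pos n with rfl | hn
    · have : o 1 = o 0 := by have := hper 0; rw [hN, pow_zero] at this; simpa using this
      rw [this, inv_mul_cancel]; exact one_mem _
    obtain ⟨m, -, hm⟩ := Nat.exists_mul_mod_eq_one_of_coprime hcop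
      (Nat.one_lt_pow hn.ne' (Nat.Prime.one_lt Fact.out))
    have h1 := hmulti m
    have e : o (m * d) = o 1 := by
      have hmod : ∀ a, o a = o (a % N) := fun a => by
        simp only [o]
        rw [← Nat.mod_add_div a N, pow_add, pow_mul, hk, one_pow, mul_one, Nat.add_mul_mod_self_left,
          Nat.mod_mod]
      rw [hmod, mul_comm m d, hm]
    rwa [e] at h1
  refine eq_of_diff (E := E) hk (fun q hq hqn => h.coprime_pow hyl n q hq hqn) ?_ ?_
  · exact (hMc (by simpa [o] using ho1)).1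
  · exact hkM _ (by simpa [o] using ho1)

end

end MaxCyc

section main

variable {V : Type v} [CommGroup V] [Finite V] [MulDistribMulAction K V]

/-- The orbit product of an element of order dividing `l` is fixed by it. -/
theorem orbit_prod_fixed (l : ℕ) [Fact l.Prime] {x : K} (hx : x ^ l = 1) (v : V) :
    x • (∏ i : ZMod l, x ^ i.val • v) = ∏ i : ZMod l, x ^ i.val • v := by
  rw [Finset.smul_prod']
  refine Fintype.prod_equiv (Equiv.addRight (1 : ZMod l)) _ _ fun i => ?_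
  rw [← mul_smul, ← pow_succ', Equiv.coe_addRight, ZMod.val_add, ZMod.val_one,
    ← pow_eq_pow_mod _ hx]

/-- A Sylow `y`-subgroup centralising `A` centralises `E`. -/
theorem centralises {s l y : ℕ} [Fact s.Prime] [Fact y.Prime] {E A : Subgroup K}
    (h : MaxCyc K l E A) (hirr : Irred K V) (hf : ∀ k : K, (∀ v : V, k • v = v) → k = 1)
    [Nontrivial V] (hV : IsPGroup s V) (hyl : y ≠ l) (hone : OnePoint K V y)
    (hPA : ∀ P : Sylow y K, (P : Subgroup K) ≤ centralizer (A : Set K))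
    (hexc : ¬ (l = 2 ∧ Nat.card A ≤ 2 ∧ y = 3)) :
    ∀ P : Sylow y K, (P : Subgroup K) ≤ centralizer (E : Set K) := by
  suffices hP0 : ∃ P : Sylow y K, (P : Subgroup K) ≤ centralizer (E : Set K) by
    obtain ⟨P0, hP0⟩ := hP0
    intro P
    obtain ⟨g, rfl⟩ := MulAction.exists_smul_eq K P0 P
    rintro _ ⟨x, hx, rfl⟩
    have := h.normalE
    exact (inferInstance : (centralizer (E : Set K)).Normal).conj_mem x (hP0 hx) g
  by_cases hE : E = ⊥
  · refine ⟨default, fun x _ => mem_centralizer_iff.2 fun e he => ?_⟩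
    rw [hE] at he
    rw [Subgroup.mem_bot.1 he, one_mul, mul_one]
  haveI := Fact.mk h.prime
  have hA : A ≠ ⊥ := by
    intro hA
    haveI := h.normalE
    haveI : Nontrivial E := (Subgroup.nontrivial_iff_ne_bot _).2 hE
    obtain ⟨z, hz, hz1⟩ := exists_mem_ne (((Subgroup.nontrivial_iff_ne_bot _).1
      (h.pgroup.center_nontrivial)))
    have hZ : E ⊓ centralizer (E : Set K) = A := h.max _ inferInstance (hA.trans_le bot_le)
      inf_le_left fun a ha b hb => mem_centralizer_iff.1 hb.2 a ha.1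
    have hzA : (z : K) ∈ A := hZ ▸ (⟨z.2, mem_centralizer_iff.2 fun e he =>
      congrArg Subtype.val (mem_center_iff.1 hz ⟨e, he⟩)⟩ : (z : K) ∈ E ⊓ centralizer (E : Set K))
    rw [hA, Subgroup.mem_bot] at hzA
    exact hz1 (Subtype.ext hzA)
  obtain ⟨M, ⟨hAM, hMc, hMM, hMw⟩, hframe⟩ := h.exists_frame hyl hexc
  -- an element of order `l` in `A` fixes nothing
  obtain ⟨a₀, ha₀, ha₀l, ha₀1⟩ : ∃ a ∈ A, a ^ l = 1 ∧ a ≠ 1 := by
    obtain ⟨n, hn⟩ := IsPGroup.iff_card.1 (h.pgroup.to_le h.le)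
    have hd : l ∣ Nat.card A := by
      rcases Nat.eq_zero_or_pos n with rfl | hn0
      · exact absurd (Subgroup.eq_bot_of_card_eq _ (by simpa using hn)) hA
      · exact hn ▸ dvd_pow_self l hn0.ne'
    obtain ⟨a, ha⟩ := exists_prime_orderOf_dvd_card' l hd
    refine ⟨a, a.2, by rw [← SubmonoidClass.coe_pow, ← ha, pow_orderOf_eq_one]; rfl, fun e => ?_⟩
    rw [OneMemClass.coe_eq_one.1 e, orderOf_one] at ha
    exact h.prime.ne_one ha.symm
  have hfpf : ∀ v : V, a₀ • v = v → v = 1 := by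
    intro v hv
    by_contra hv1
    let A₁ : Subgroup K :=
      { carrier := {a | a ∈ A ∧ a ^ l = 1}
        one_mem' := ⟨one_mem _, one_pow _⟩
        mul_mem' := fun {a b} ha hb => ⟨mul_mem ha.1 hb.1, by
          rw [(show Commute a b from h.comm ha.1 hb.1).mul_pow, ha.2, hb.2, one_mul]⟩
        inv_mem' := fun {a} ha => ⟨inv_mem ha.1, by rw [inv_pow, ha.2, inv_one]⟩ }
    have hA₁n : A₁.Normal := ⟨fun a ha g => ⟨h.normalA.conj_mem a ha.1 g, by
      rw [conj_pow, ha.2, mul_one, mul_inv_cancel]⟩⟩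
    have hle : Nat.card A₁ ≤ l := le_trans (Nat.card_le_card_of_injective
      (fun a : A₁ => (⟨⟨(a : K), a.2.1⟩, Subtype.ext a.2.2⟩ : {a : A // a ^ l = 1}))
      (fun a b e => Subtype.ext (congrArg (fun t => ((t : {a : A // a ^ l = 1}).1 : K)) e)))
      h.card_torsion_le
    have hzp : zpowers a₀ = A₁ := by
      refine Subgroup.eq_of_le_of_card_ge (zpowers_le.2 ⟨ha₀, ha₀l⟩) (hle.trans ?_)
      rw [Nat.card_zpowers, orderOf_eq_prime ha₀l ha₀1]
    have hb : fixSub (V := V) A₁ ≠ ⊥ := fun hb => hv1 (by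
      have : v ∈ fixSub A₁ := by
        rw [← hzp]
        intro b hb
        obtain ⟨i, rfl⟩ := mem_zpowers_iff.1 hb
        exact (show a₀ ^ i ∈ stabilizer K v from zpow_mem hv i)
      rwa [hb, Subgroup.mem_bot] at this)
    have := eq_bot_of_fixSub_ne_bot hirr hf hA₁n hb
    exact ha₀1 (Subgroup.mem_bot.1 (this ▸ (⟨ha₀, ha₀l⟩ : a₀ ∈ A₁)))
  -- hyperplane of exponent `l` with a fixed point
  set W : Set (Subgroup K) := {X | X ≤ M ∧ (∀ x ∈ X, x ^ l = 1) ∧ fixSub (V := V) X ≠ ⊥} with hW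
  have hbot : (⊥ : Subgroup K) ∈ W := by
    refine ⟨bot_le, fun x hx => by rw [Subgroup.mem_bot.1 hx, one_pow], fun hb => ?_⟩
    obtain ⟨v, hv⟩ := exists_ne (1 : V)
    apply hv
    have : v ∈ fixSub (⊥ : Subgroup K) := fun b hb => by rw [Subgroup.mem_bot.1 hb, one_smul]
    rwa [hb, Subgroup.mem_bot] at this
  obtain ⟨M₀, ⟨hM₀M, hM₀l, hM₀fix⟩, hmax⟩ := (Set.toFinite W).exists_maximal ⟨⊥, hbot⟩
  have hno : ∀ x ∈ M, x ^ l = 1 → x ∉ M₀ → ∀ v ∈ fixSub (V := V) M₀, x • v = v → v = 1 := by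
    intro x hxM hxl hx v hv hxv
    by_contra hv1
    refine hx (hmax (y := M₀ ⊔ zpowers x) ⟨sup_le hM₀M (zpowers_le.2 hxM), fun z hz => ?_,
      fun hb => hv1 ?_⟩ le_sup_left ((le_sup_right : zpowers x ≤ M₀ ⊔ zpowers x) (mem_zpowers x)))
    · let T : Subgroup K :=
        { carrier := {z | z ∈ M ∧ z ^ l = 1}
          one_mem' := ⟨one_mem _, one_pow _⟩
          mul_mem' := fun {a b} ha hb => ⟨mul_mem ha.1 hb.1, by
            rw [(show Commute a b from hMM a ha.1 b hb.1).mul_pow, ha.2, hb.2, one_mul]⟩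
          inv_mem' := fun {a} ha => ⟨inv_mem ha.1, by rw [inv_pow, ha.2, inv_one]⟩ }
      have hle : M₀ ⊔ zpowers x ≤ T :=
        sup_le (fun m hm => ⟨hM₀M hm, hM₀l m hm⟩) (zpowers_le.2 ⟨hxM, hxl⟩)
      exact (hle hz).2
    · have hle : M₀ ⊔ zpowers x ≤ stabilizer K v := sup_le hv (zpowers_le.2 hxv)
      have : v ∈ fixSub (M₀ ⊔ zpowers x) := fun b hb => hle hb
      rwa [hb, Subgroup.mem_bot] at this
  obtain ⟨v, hv, hv1⟩ := exists_mem_ne hM₀fix
  have hgen : ∀ x ∈ M, x ^ l = 1 → x ∈ M₀ ⊔ A := by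
    intro x hxM hxl
    by_contra hxn
    have hca : Commute x a₀ := hMM x hxM a₀ (hAM ha₀)
    have hsl : ∀ t : ℕ, (x * a₀ ^ t) ^ l = 1 := fun t => by
      rw [(hca.pow_right t).mul_pow, hxl, ← pow_mul, mul_comm, pow_mul, ha₀l, one_pow, one_mul]
    have hMfix : ∀ g ∈ M, g • v ∈ fixSub (V := V) M₀ := fun g hg b hb => by
      rw [← mul_smul, hMM b (hM₀M hb) g hg, mul_smul, hv b hb]
    have hprodmem : ∀ {ι : Type} [Fintype ι] (f : ι → K), (∀ i, f i ∈ M) →
        (∏ i, f i • v) ∈ fixSub (V := V) M₀ := fun f hfm =>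
      Subgroup.prod_mem _ fun i _ => hMfix _ (hfm i)
    have hkill : ∀ g ∈ M, g ^ l = 1 → g ∉ M₀ → (∏ i : ZMod l, g ^ i.val • v) = 1 := fun g hg hgl hg0 =>
      hno g hg hgl hg0 _ (hprodmem _ fun i => pow_mem hg _) (orbit_prod_fixed l hgl v)
    have ha₀M₀ : a₀ ∉ M₀ := fun hm => hv1 (hfpf v (hv a₀ hm))
    have hline := Coprime.prod_lines l fun i j : ZMod l => (x ^ i.val * a₀ ^ j.val) • v
    have h1 : (∏ j : ZMod l, (x ^ (0 : ZMod l).val * a₀ ^ j.val) • v) = 1 := by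
      simpa using hkill a₀ (hAM ha₀) ha₀l ha₀M₀
    have h2 : ∀ t : ZMod l, (∏ i : ZMod l, (x ^ i.val * a₀ ^ (t * i).val) • v) = 1 := by
      intro t
      have hmem : x * a₀ ^ t.val ∈ M := mul_mem hxM (pow_mem (hAM ha₀) _)
      have hnot : x * a₀ ^ t.val ∉ M₀ := fun hm => hxn (by
        have : x = (x * a₀ ^ t.val) * (a₀ ^ t.val)⁻¹ := by group
        rw [this]
        exact mul_mem (Subgroup.mem_sup_left hm) (Subgroup.mem_sup_right (inv_mem (pow_mem ha₀ _))))
      refine Eq.trans (Finset.prod_congr rfl fun i _ => ?_) (hkill _ hmem (hsl _) hnot)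
      rw [(hca.pow_right _).mul_pow, ← pow_mul, ZMod.val_mul, ← pow_eq_pow_mod _ ha₀l]
    have h3 : (∏ i : ZMod l, ∏ j : ZMod l, (x ^ i.val * a₀ ^ j.val) • v) = 1 := by
      refine Finset.prod_eq_one fun i _ => ?_
      simp only [mul_smul]
      rw [← Finset.smul_prod']
      have := hkill a₀ (hAM ha₀) ha₀l ha₀M₀
      rw [this, smul_one]
    rw [Finset.prod_eq_one (fun t _ => h2 t), h1, h3, mul_one, mul_one] at hline
    simp only [ZMod.val_zero, pow_zero, mul_one, one_smul] at hline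
    have hl : l ≠ s := by
      intro e
      subst e
      haveI := h.cyclic
      exact not_dvd_card_of_comm hirr hf hV A (inferInstance) (hA := h.normalA) (by
        obtain ⟨n, hn⟩ := IsPGroup.iff_card.1 (h.pgroup.to_le h.le)
        rcases Nat.eq_zero_or_pos n with rfl | hn0
        · exact absurd (Subgroup.eq_bot_of_card_eq _ (by simpa using hn)) hA
        · exact hn ▸ dvd_pow_self l hn0.ne')
    obtain ⟨n, hn⟩ := IsPGroup.iff_card.1 hV
    exact hv1 (orderOf_eq_one_iff.1 (Nat.eq_one_of_dvd_coprimes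
      (Nat.Coprime.pow_right n ((Nat.coprime_primes h.prime Fact.out).2 hl))
      (orderOf_dvd_iff_pow_eq_one.2 hline.symm) (hn ▸ orderOf_dvd_natCard v)))
  obtain ⟨P, hP, hPn⟩ := hone v hv1
  refine ⟨P, ?_⟩
  have hPE : (P : Subgroup K) ⊓ E = ⊥ := by
    refine (Subgroup.eq_bot_iff_forall _).2 fun z hz => ?_
    obtain ⟨n, hn⟩ := P.2 ⟨z, hz.1⟩
    exact h.coprime_pow hyl n z hz.2 (congrArg Subtype.val hn)
  have hPM₀ : ∀ k ∈ (P : Subgroup K), ∀ m ∈ M₀, k * m = m * k := by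
    intro k hk m hm
    have hnorm : m * k * m⁻¹ ∈ (P : Subgroup K) := (mem_normalizer_iff.1 (hPn (hv m hm)) k).1 hk
    have h1 : k * m * k⁻¹ * m⁻¹ ∈ (P : Subgroup K) := by
      have h2 := mul_mem hk (inv_mem hnorm)
      rwa [show k * (m * k * m⁻¹)⁻¹ = k * m * k⁻¹ * m⁻¹ by group] at h2
    have hmE : m ∈ E := (hMc (hM₀M hm)).1
    have h3 : k * m * k⁻¹ * m⁻¹ ∈ E := mul_mem (h.normalE.conj_mem m hmE k) (inv_mem hmE)
    have h4 : k * m * k⁻¹ * m⁻¹ = 1 := Subgroup.mem_bot.1 (hPE ▸ ⟨h1, h3⟩)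
    exact commutatorElement_eq_one_iff_mul_comm.1 h4
  have hPM : ∀ k ∈ (P : Subgroup K), ∀ m ∈ M, k * m = m * k := by
    intro k hk m hm
    obtain ⟨a, ha, hma⟩ := hMw m hm
    have hmem := hgen (m * a) (mul_mem hm (hAM ha)) hma
    have hle : M₀ ⊔ A ≤ centralizer ({k} : Set K) := sup_le
      (fun z hz => mem_centralizer_singleton_iff.2 (hPM₀ k hk z hz).symm)
      (fun z hz => mem_centralizer_singleton_iff.2 ((mem_centralizer_iff.1 (hPA P hk) z hz)))
    have h1 : m * a * a⁻¹ ∈ centralizer ({k} : Set K) :=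
      mul_mem (hle hmem) (inv_mem (hle (Subgroup.mem_sup_right ha)))
    rw [mul_inv_cancel_right] at h1
    exact (mem_centralizer_singleton_iff.1 h1).symm
  have hPc : ∀ k ∈ (P : Subgroup K), ∀ f ∈ MaxCyc.cent E A, k * f = f * k := by
    intro k hk f hf'
    obtain ⟨n, hn⟩ := P.2 ⟨k, hk⟩
    have hkn : k ^ y ^ n = 1 := congrArg Subtype.val hn
    have hq : f⁻¹ * (k * f * k⁻¹) ∈ MaxCyc.cent E A :=
      mul_mem (inv_mem hf') (h.cent_normal.conj_mem f hf' k)
    refine MaxCyc.eq_of_diff (E := E) hkn (fun q hq hqn => h.coprime_pow hyl n q hq hqn) hq.1 ?_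
    refine hframe k n hkn (hPM k hk) _ hq fun m hm => ?_
    -- conjugation of `m` by `f` is fixed by `k`
    have hfm : f * m * f⁻¹ ∈ M := by
      have e : f * m * f⁻¹ = ⁅f, m⁆ * m := by simp only [commutatorElement_def]; group
      rw [e]
      exact mul_mem (hAM (h.comm_mem hf' (hMc hm)).1) hm
    have e2 : k * (f * m * f⁻¹) * k⁻¹ = f * m * f⁻¹ := by rw [hPM k hk _ hfm, mul_inv_cancel_right]
    have e3 : k⁻¹ * m * k = m := by rw [mul_assoc, ← hPM k hk m hm, inv_mul_cancel_left]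
    calc m * (f⁻¹ * (k * f * k⁻¹)) = f⁻¹ * (f * m * f⁻¹) * (k * f * k⁻¹) := by group
      _ = f⁻¹ * (k * (f * m * f⁻¹) * k⁻¹) * (k * f * k⁻¹) := by rw [e2]
      _ = f⁻¹ * k * f * m * k⁻¹ := by group
      _ = f⁻¹ * k * f * (k⁻¹ * m * k) * k⁻¹ := by
        conv_lhs => rw [show f⁻¹ * k * f * m * k⁻¹ = f⁻¹ * k * f * (m * k⁻¹) by group]
        rw [e3]
        rw [mul_assoc (f⁻¹ * k * f) m k⁻¹]
      _ = f⁻¹ * (k * f * k⁻¹) * m := by group
  intro k hk
  refine mem_centralizer_iff.2 fun e he => ?_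
  obtain ⟨n, hn⟩ := P.2 ⟨k, hk⟩
  have hkn : k ^ y ^ n = 1 := congrArg Subtype.val hn
  have hkA : ∀ a ∈ A, k * a = a * k := fun a ha => (mem_centralizer_iff.1 (hPA P hk) a ha).symm
  have hqE : e⁻¹ * (k * e * k⁻¹) ∈ E := mul_mem (inv_mem he) (h.normalE.conj_mem e he k)
  have hqc : e⁻¹ * (k * e * k⁻¹) ∈ MaxCyc.cent E A := by
    refine ⟨hqE, mem_centralizer_iff.2 fun a ha => ?_⟩
    have e2 : k * (e * a * e⁻¹) * k⁻¹ = e * a * e⁻¹ := by
      rw [hkA _ (h.normalA.conj_mem a ha e), mul_inv_cancel_right]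
    have e3 : k⁻¹ * a * k = a := by rw [mul_assoc, ← hkA a ha, inv_mul_cancel_left]
    calc a * (e⁻¹ * (k * e * k⁻¹)) = e⁻¹ * (e * a * e⁻¹) * (k * e * k⁻¹) := by group
      _ = e⁻¹ * (k * (e * a * e⁻¹) * k⁻¹) * (k * e * k⁻¹) := by rw [e2]
      _ = e⁻¹ * k * e * (a * k⁻¹) := by group
      _ = e⁻¹ * k * e * ((k⁻¹ * a * k) * k⁻¹) := by rw [e3]
      _ = e⁻¹ * (k * e * k⁻¹) * a := by group
  exact (MaxCyc.eq_of_diff (E := E) hkn (fun q hq hqn => h.coprime_pow hyl n q hq hqn) hqE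
    (hPc k hk _ hqc)).symm

end main

end Cfsg.Agent.Lib.Palfy68
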