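import Cfsg.Agent.Lib.Palfy68.Dual

/-!
# Characters over a linear character of a central subgroup
-/

set_option autoImplicit false
set_option linter.unusedSectionVars false

namespace Cfsg.Agent.Lib.Palfy68

open Subgroup
open scoped commutatorElement
open Cfsg.Agent.Lib.Characters.Basic Cfsg.Agent.Lib.Clifford.Basic

universe u

variable {G : Type u} [Group G] [Finite G]

/-- `φ` restricts to a multiple of `μ`. -/
def Lies {X N : Subgroup G} (hNX : N ≤ X) (φ : Cfsg.IrrCharacter X) (μ : ↥N →* ℂˣ) : Prop :=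
  ∀ n : N, (φ : X → ℂ) (Subgroup.inclusion hNX n) = (φ : X → ℂ) 1 * (μ n : ℂ)

variable {X N : Subgroup G} [N.Normal] (hNX : N ≤ X) (hcen : ∀ n ∈ N, ∀ x ∈ X, x * n = n * x)

include hcen in
theorem lies_of_inner [Fintype N] [Fintype X] (φ : Cfsg.IrrCharacter X) (μ : ↥N →* ℂˣ)
    (h : Cfsg.classInner ((φ : X → ℂ) ∘ Subgroup.inclusion hNX)
      (RelDegrees87.Basic.lin N μ : N → ℂ) ≠ 0) : Lies hNX φ μ := by
  classical
  let N' : Subgroup X := N.subgroupOf X
  haveI := Fintype.ofFinite N'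
  let e : N' ≃* N := subgroupOfEquivOfLe hNX
  let θ : Cfsg.IrrCharacter N' :=
    ⟨(RelDegrees87.Basic.lin N μ : N → ℂ) ∘ e.toMonoidHom,
      isIrrCharacter_comp _ e.surjective (RelDegrees87.Basic.lin N μ).2⟩
  have hinner : Cfsg.classInner (fun n : N' => (φ : X → ℂ) n) θ ≠ 0 := by
    have : Cfsg.classInner (fun n : N' => (φ : X → ℂ) n) θ =
        Cfsg.classInner ((φ : X → ℂ) ∘ Subgroup.inclusion hNX) (RelDegrees87.Basic.lin N μ : N → ℂ) := by
      simp only [Cfsg.classInner, Nat.card_congr e.toEquiv]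
      congr 1
      exact Fintype.sum_equiv e.toEquiv _ _ fun x => rfl
    rwa [this]
  have hinv : ∀ g : X, conjC N' g θ = (θ : N' → ℂ) := by
    intro g
    funext n
    refine congrArg (θ : N' → ℂ) (Subtype.ext (Subtype.ext ?_))
    show (g : G) * ((n : X) : G) * (g : G)⁻¹ = ((n : X) : G)
    rw [hcen ((n : X) : G) n.2 g g.2, mul_inv_cancel_right]
  have hres := restrict_eq_smul N' φ.2 θ hinner hinv
  intro n
  have h1 := congrFun hres 1
  have h2 := congrFun hres (e.symm n)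
  simp only [Pi.smul_apply, smul_eq_mul] at h1 h2
  have hθ : ∀ k : N', (θ : N' → ℂ) k = (μ (e k) : ℂ) := fun k => rfl
  rw [hθ, map_one, map_one, Units.val_one, mul_one, OneMemClass.coe_one] at h1
  rw [hθ, MulEquiv.apply_symm_apply, ← h1] at h2
  exact h2

include hcen in
theorem exists_lies (μ : ↥N →* ℂˣ) : ∃ φ : Cfsg.IrrCharacter X, Lies hNX φ μ := by
  classical
  haveI := Fintype.ofFinite X
  haveI := Fintype.ofFinite N
  let N' : Subgroup X := N.subgroupOf X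
  haveI : N'.Normal := inferInstance
  haveI := Fintype.ofFinite N'
  let e : N' ≃* N := subgroupOfEquivOfLe hNX
  let θ : Cfsg.IrrCharacter N' :=
    ⟨(RelDegrees87.Basic.lin N μ : N → ℂ) ∘ e.toMonoidHom,
      isIrrCharacter_comp _ e.surjective (RelDegrees87.Basic.lin N μ).2⟩
  obtain ⟨φ, hφ⟩ := RelDegrees87.Basic.exists_over N' θ
  refine ⟨φ, lies_of_inner hNX hcen φ μ ?_⟩
  have : Cfsg.classInner (fun n : N' => (φ : X → ℂ) n) θ =
      Cfsg.classInner ((φ : X → ℂ) ∘ Subgroup.inclusion hNX) (RelDegrees87.Basic.lin N μ : N → ℂ) := by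
    simp only [Cfsg.classInner, Nat.card_congr e.toEquiv]
    congr 1
    exact Fintype.sum_equiv e.toEquiv _ _ fun x => rfl
  rw [← this]
  exact hφ

/-- An element commuting with `X` modulo the kernel of `μ` is seen by `φ`. -/
theorem lies_apply_ne_zero {φ : Cfsg.IrrCharacter X} {μ : ↥N →* ℂˣ} (hφ : Lies hNX φ μ) (a : X)
    (hcen : ∀ n ∈ N, ∀ x ∈ X, x * n = n * x)
    (ha : ∀ g : X, ∃ hm : ((⁅a, g⁆ : X) : G) ∈ N, μ ⟨_, hm⟩ = 1) : (φ : X → ℂ) a ≠ 0 := by
  obtain ⟨k, ρ, hρ, hρc⟩ := φ.2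
  haveI := hρ
  haveI := Fintype.ofFinite X
  have hscal : ∀ n : N, ρ (Subgroup.inclusion hNX n) = (μ n : ℂ) • (1 : Module.End ℂ (Fin k → ℂ)) := by
    intro n
    obtain ⟨c, hc⟩ := Clifford.Rep.schur ρ (ρ (Subgroup.inclusion hNX n)) fun g => by
      rw [← map_mul, ← map_mul]
      congr 1
      apply Subtype.ext
      exact (hcen n n.2 g g.2).symm
    have h1 := hφ n
    rw [← hρc] at h1
    change LinearMap.trace ℂ _ (ρ (Subgroup.inclusion hNX n)) = ρ.character 1 * _ at h1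
    rw [hc, map_smul, smul_eq_mul] at h1
    have h3 : LinearMap.trace ℂ _ (1 : Module.End ℂ (Fin k → ℂ)) = ρ.character 1 := by
      show _ = LinearMap.trace ℂ _ (ρ 1)
      rw [map_one ρ]
    rw [h3, mul_comm] at h1
    have hne : ρ.character 1 ≠ 0 := by
      rw [hρc]; exact apply_one_ne_zero φ
    rw [hc, mul_left_cancel₀ hne h1]
  obtain ⟨c, hc⟩ := Clifford.Rep.schur ρ (ρ a) fun g => by
    obtain ⟨hm, hμ⟩ := ha g
    have e : ρ ⁅a, g⁆ = 1 := by
      have h1 := hscal ⟨_, hm⟩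
      rw [hμ, Units.val_one, one_smul] at h1
      exact h1
    rw [← map_mul, ← map_mul, show a * g = ⁅a, g⁆ * (g * a) by simp only [commutatorElement_def]; group,
      map_mul, e, one_mul]
  have hne : ρ.character 1 ≠ 0 := by rw [hρc]; exact apply_one_ne_zero φ
  have hval : (φ : X → ℂ) a = c * ρ.character 1 := by
    rw [← hρc]
    show LinearMap.trace ℂ _ (ρ a) = c * LinearMap.trace ℂ _ (ρ 1)
    rw [hc, map_smul, smul_eq_mul, map_one ρ]
  rw [hval]
  refine mul_ne_zero (fun hc0 => ?_) hne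
  rw [hc0, zero_smul] at hc
  have h4 : ρ (a⁻¹ * a) = 0 := by rw [map_mul, hc, mul_zero]
  rw [inv_mul_cancel, map_one] at h4
  apply hne
  show LinearMap.trace ℂ _ (ρ 1) = 0
  rw [map_one ρ, h4, map_zero]

/-- A character over a nontrivial character of the derived subgroup is not linear. -/
theorem lies_degree_ne_one {φ : Cfsg.IrrCharacter X} {μ : ↥N →* ℂˣ} (hφ : Lies hNX φ μ)
    (hder : ⁅X, X⁆ = N) (hμ : μ ≠ 1) : Cfsg.charDegree (φ : X → ℂ) ≠ 1 := by
  intro hd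
  obtain ⟨ν, hν⟩ := Clifford.Linear.exists_hom (lam := (φ : X → ℂ))
    ⟨isCharacter_irr φ, by rw [BlocksChars5.Basic.apply_one, hd, Nat.cast_one]⟩
  have hν' : ∀ x : X, ((ν x : ℂˣ) : ℂ) = (φ : X → ℂ) x := fun x => congrFun hν x
  apply hμ
  let K : Subgroup G :=
    { carrier := {g | ∃ hg : g ∈ N, μ ⟨g, hg⟩ = 1}
      one_mem' := ⟨one_mem _, map_one μ⟩
      mul_mem' := by
        rintro a b ⟨ha, ha'⟩ ⟨hb, hb'⟩
        exact ⟨mul_mem ha hb, by
          rw [show (⟨a * b, mul_mem ha hb⟩ : N) = ⟨a, ha⟩ * ⟨b, hb⟩ from rfl, map_mul, ha', hb', one_mul]⟩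
      inv_mem' := by
        rintro a ⟨ha, ha'⟩
        exact ⟨inv_mem ha, by
          rw [show (⟨a⁻¹, inv_mem ha⟩ : N) = ⟨a, ha⟩⁻¹ from rfl, map_inv, ha', inv_one]⟩ }
  have hle : ⁅X, X⁆ ≤ K := commutator_le.2 fun a ha b hb => by
    have hm : ⁅a, b⁆ ∈ N := hder ▸ commutator_mem_commutator ha hb
    refine ⟨hm, Units.ext ?_⟩
    have h1 := hφ ⟨_, hm⟩
    rw [BlocksChars5.Basic.apply_one, hd, Nat.cast_one, one_mul] at h1
    rw [← h1, ← hν', show Subgroup.inclusion hNX ⟨⁅a, b⁆, hm⟩ = ⁅(⟨a, ha⟩ : X), ⟨b, hb⟩⁆ from rfl,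
      map_commutatorElement, commutatorElement_eq_one_iff_mul_comm.2 (mul_comm _ _)]
  refine MonoidHom.ext fun n => ?_
  obtain ⟨_, h⟩ := hle (hder.symm ▸ n.2 : (n : G) ∈ ⁅X, X⁆)
  exact h

end Cfsg.Agent.Lib.Palfy68
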