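import Cfsg.Agent.Lib.Palfy68.TypeTwo
import Cfsg.Agent.Lib.PGroups.Omega
import Cfsg.Agent.Lib.Cores.MinNormal
import Cfsg.Agent.S4493

/-!
# Three primes dividing degrees of a solvable group: the induction
-/

set_option autoImplicit false
set_option linter.unusedSectionVars false

namespace Cfsg.Agent.Lib.Palfy68

open Subgroup
open scoped commutatorElement
open Cfsg.Agent.Lib.Characters.Basic

universe u

variable {G : Type u} [Group G] [Finite G] [Group.IsSolvable G]

/-- The case where the prime `x` divides no degree of the quotient by a minimal normal subgroup. -/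
theorem case_of {x y z : ℕ} (hx : x.Prime) (hy : y.Prime) (hz : z.Prime)
    (hxy : x ≠ y) (hxz : x ≠ z) (hyz : y ≠ z)
    (hnxy : ∀ χ : Cfsg.IrrCharacter G, ¬ x * y ∣ Cfsg.charDegree (χ : G → ℂ))
    (hnxz : ∀ χ : Cfsg.IrrCharacter G, ¬ x * z ∣ Cfsg.charDegree (χ : G → ℂ))
    (hnyz : ∀ χ : Cfsg.IrrCharacter G, ¬ y * z ∣ Cfsg.charDegree (χ : G → ℂ))
    (hex : ∃ χ : Cfsg.IrrCharacter G, x ∣ Cfsg.charDegree (χ : G → ℂ))
    (hey : ∃ χ : Cfsg.IrrCharacter G, y ∣ Cfsg.charDegree (χ : G → ℂ))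
    (hez : ∃ χ : Cfsg.IrrCharacter G, z ∣ Cfsg.charDegree (χ : G → ℂ))
    (N : Subgroup G) [N.Normal] (hN : N ≠ ⊥)
    (hmin : ∀ M : Subgroup G, M.Normal → M ≤ N → M = ⊥ ∨ M = N)
    (hq : ∀ φ : Cfsg.IrrCharacter (G ⧸ N), ¬ x ∣ Cfsg.charDegree (φ : G ⧸ N → ℂ)) : False := by
  classical
  haveI := Fact.mk hx
  haveI := Fact.mk hy
  haveI := Fact.mk hz
  obtain ⟨hNm, s, hs, hNs⟩ := Cores.MinNormal.elementary_of_solvable hN hmin
  haveI := hNm
  haveI := Fact.mk hs
  have hNc : ∀ a b : N, a * b = b * a := fun a b => mul_comm' a b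
  have hexp : ∀ a : N, a ^ s = 1 := fun a => Subtype.ext (by simpa using hNs a a.2)
  have hsurj := QuotientGroup.mk'_surjective N
  obtain ⟨R, hRn, hRc, hRp, hRi⟩ :=
    Cfsg.Agent.S4493.back (Nat.card (G ⧸ N)) x hx le_rfl (Group.isSolvable_of_surjective hsurj) hq
  haveI := hRn
  let M : Subgroup G := R.comap (QuotientGroup.mk' N)
  haveI hMn : M.Normal := hRn.comap _
  have hMi : ¬ x ∣ M.index := by
    rw [show M.index = R.index from Subgroup.index_comap_of_surjective R hsurj]; exact hRi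
  have hNM : N ≤ M := fun a ha => by
    show QuotientGroup.mk' N a ∈ R
    rw [QuotientGroup.mk'_apply, (QuotientGroup.eq_one_iff a).2 ha]
    exact one_mem R
  have hMder : ∀ a ∈ M, ∀ b ∈ M, ⁅a, b⁆ ∈ N := fun a ha b hb => by
    rw [← QuotientGroup.eq_one_iff (N := N), ← QuotientGroup.mk'_apply,
      map_commutatorElement, commutatorElement_eq_one_iff_mul_comm]
    exact hRc _ ha _ hb
  by_cases hsx : s = x
  · subst hsx
    have hMp : IsPGroup s M := hRp.comap_of_ker_isPGroup _ (by
      rw [QuotientGroup.ker_mk']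
      exact Cores.MinNormal.isPGroup_of_pow_eq_one hNs)
    rcases hmin ⁅M, M⁆ (Subgroup.commutator_normal M M) (commutator_le.2 hMder) with hd | hd
    · obtain ⟨χ, hχ⟩ := hex
      refine not_dvd_degree_of_sylow M (fun a ha b hb => ?_) hMi χ hχ
      exact commutatorElement_eq_one_iff_mul_comm.1
        (Subgroup.mem_bot.1 (hd ▸ commutator_mem_commutator ha hb))
    · have hcen : N ≤ centralizer (M : Set G) := by
        haveI : (centralizer (M : Set G)).Normal := inferInstance
        rcases hmin (N ⊓ centralizer (M : Set G)) inferInstance inf_le_left with h | h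
        · exfalso
          have hne : N.subgroupOf M ≠ ⊥ := fun e => hN (by
            rw [subgroupOf_eq_bot] at e
            exact e.eq_bot_of_le hNM)
          obtain ⟨⟨a, haM⟩, ha, ha1⟩ := exists_mem_ne
            (PGroups.normal_inf_center_ne_bot hMp (N.subgroupOf M) hne)
          apply ha1
          apply Subtype.ext
          have : a ∈ N ⊓ centralizer (M : Set G) := ⟨ha.1, mem_centralizer_iff.2 fun b hb =>
            congrArg Subtype.val (Subgroup.mem_center_iff.1 ha.2 ⟨b, hb⟩)⟩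
          rw [h] at this
          exact Subgroup.mem_bot.1 this
        · exact h ▸ inf_le_right
      have hcop : (Nat.card M).Coprime M.index := by
        obtain ⟨k, hk⟩ := IsPGroup.iff_card.1 hMp
        rw [hk]
        exact Nat.Coprime.pow_left k ((Nat.Prime.coprime_iff_not_dvd hx).2 hMi)
      obtain ⟨H, hH⟩ := exists_right_complement'_of_coprime hcop
      have h : TwoHyp s N M H :=
        { normalX := hMn
          normalN := inferInstance
          pgroup := hMp
          prime_idx := by rw [← hH.symm.index_eq_card]; exact hMi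
          sup := hH.sup_eq_top
          inf := disjoint_iff.1 hH.disjoint
          le := hNM
          central := fun n hn g hg => mem_centralizer_iff.1 (hcen hn) g hg
          derived := hd
          ne := hN
          exp := hexp
          min := hmin }
      exact h.false_of hxy hxz hyz hnxy hnxz hnyz hey hez
  · obtain ⟨P⟩ : Nonempty (Sylow x M) := inferInstance
    set P' : Subgroup G := (P : Subgroup M).map M.subtype with hP'
    have hP'i : ¬ x ∣ P'.index := by
      rw [hP', index_map_subtype, hx.dvd_mul, not_or]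
      exact ⟨P.not_dvd_index, hMi⟩
    have hP'p : IsPGroup x P' := P.2.map _
    have hP'N : P' ⊓ N = ⊥ := by
      rw [← disjoint_iff]
      exact IsPGroup.disjoint_of_ne x s (fun e => hsx e.symm) P' N hP'p
        (Cores.MinNormal.isPGroup_of_pow_eq_one hNs)
    have hP'c : ∀ a ∈ P', ∀ b ∈ P', a * b = b * a := fun a ha b hb => by
      have h1 : ⁅a, b⁆ ∈ P' ⊓ N := Subgroup.mem_inf.2 ⟨by
          rw [commutatorElement_def]
          exact mul_mem (mul_mem (mul_mem ha hb) (inv_mem ha)) (inv_mem hb),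
        hMder a (map_subtype_le _ ha) b (map_subtype_le _ hb)⟩
      rw [hP'N, Subgroup.mem_bot] at h1
      exact commutatorElement_eq_one_iff_mul_comm.1 h1
    have hNP : M ≤ N ⊔ P' := by
      set T : Subgroup M := N.subgroupOf M ⊔ (P : Subgroup M) with hT
      obtain ⟨k, hk⟩ := IsPGroup.iff_card.1 hRp
      have hidx : (N.subgroupOf M).index = x ^ k := by
        have hker : ((QuotientGroup.mk' N).comp M.subtype).ker = N.subgroupOf M := by
          ext a
          show QuotientGroup.mk' N (a : G) = 1 ↔ _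
          rw [QuotientGroup.mk'_apply, QuotientGroup.eq_one_iff, Subgroup.mem_subgroupOf]
        rw [← hker, Subgroup.index_ker, MonoidHom.range_comp, Subgroup.range_subtype,
          Subgroup.map_comap_eq_self_of_surjective hsurj, hk]
      have h1 : T.index ∣ x ^ k := hidx ▸ Subgroup.index_dvd_of_le le_sup_left
      obtain ⟨i, -, hi⟩ := (Nat.dvd_prime_pow hx).1 h1
      have h2 : T.index ∣ (P : Subgroup M).index := Subgroup.index_dvd_of_le le_sup_right
      rcases Nat.eq_zero_or_pos i with rfl | hi0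
      · rw [pow_zero, index_eq_one] at hi
        intro m hm
        have : (⟨m, hm⟩ : M) ∈ T := hi ▸ Subgroup.mem_top _
        have h3 := mem_map_of_mem M.subtype this
        rw [hT, Subgroup.map_sup, subgroupOf_map_subtype] at h3
        exact sup_le_sup_right (inf_le_left : N ⊓ M ≤ N) P' h3
      · exact absurd ((hi ▸ dvd_pow_self x hi0.ne').trans h2) P.not_dvd_index
    set H := normalizer (P' : Set G) with hH
    have hsup : N ⊔ H = ⊤ := by
      have h1 : normalizer (P' : Set G) ⊔ M = ⊤ := Sylow.normalizer_sup_eq_top P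
      rw [eq_top_iff, ← h1]
      exact sup_le le_sup_right (hNP.trans (sup_le_sup_left le_normalizer _))
    have hNH : ¬ N ≤ H := fun hle => by
      rw [sup_eq_right.2 hle] at hsup
      haveI : P'.Normal := normalizer_eq_top_iff.1 hsup
      obtain ⟨χ, hχ⟩ := hex
      exact not_dvd_degree_of_sylow P' hP'c hP'i χ hχ
    have hconjN : ∀ n ∈ N, ∀ a ∈ N, n * a * n⁻¹ = a := fun n hn a ha => by
      rw [show n * a = a * n from congrArg Subtype.val (hNc ⟨n, hn⟩ ⟨a, ha⟩), mul_inv_cancel_right]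
    have hnormal : ∀ K : Subgroup G, K ≤ N → H ≤ normalizer (K : Set G) → K.Normal := by
      intro K hK hHK
      rw [← normalizer_eq_top_iff, eq_top_iff, ← hsup]
      exact sup_le (le_normalizer_iff.2 fun n hn k hk => by
        rw [hconjN n hn k (hK hk)]; exact hk) hHK
    have hinf : N ⊓ H = ⊥ := by
      refine ((hmin _ ?_ inf_le_left).resolve_right fun h => hNH (h ▸ inf_le_right))
      exact hnormal _ inf_le_left (le_normalizer_iff.2 fun g hg k hk =>
        Subgroup.mem_inf.2 ⟨(inferInstance : N.Normal).conj_mem k hk.1 g,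
          mul_mem (mul_mem hg hk.2) (inv_mem hg)⟩)
    have hP'H : P' ≤ H := le_normalizer
    have hXn : (P'.subgroupOf H).Normal := ⟨fun a ha g =>
      (mem_normalizer_iff.1 g.2 (a : G)).1 ha⟩
    have hXp : IsPGroup x (P'.subgroupOf H) :=
      hP'p.comap_of_injective H.subtype H.subtype_injective
    refine type_one (s := s) hxy hxz hyz hnxy hnxz hnyz hey hez N H hN hNc hexp hmin hsup hinf
      (P'.subgroupOf H) hXn hXp fun μ hμ => ?_
    have hcN : ⁅N, P'⁆ ≤ N := commutator_le.2 fun a ha b _ => by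
      rw [commutatorElement_def, show a * b * a⁻¹ * b⁻¹ = a * (b * a⁻¹ * b⁻¹) by group]
      exact mul_mem ha ((inferInstance : N.Normal).conj_mem _ (inv_mem ha) b)
    have hcn : (⁅N, P'⁆).Normal := hnormal _ hcN (le_normalizer_iff.2 fun g hg k hk => by
      have : ⁅N, P'⁆ ≤ (⁅N, P'⁆).comap (MulAut.conj g).toMonoidHom := commutator_le.2 fun a ha b hb => by
        rw [Subgroup.mem_comap]
        show MulAut.conj g ⁅a, b⁆ ∈ _
        rw [map_commutatorElement]
        exact commutator_mem_commutator ((inferInstance : N.Normal).conj_mem a ha g)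
          ((mem_normalizer_iff.1 hg b).1 hb)
      exact this hk)
    rcases hmin _ hcn hcN with hc | hc
    · exact absurd ((commutator_eq_bot_iff_le_centralizer.1 hc).trans
        (centralizer_le_normalizer _)) hNH
    let K : Subgroup G :=
      { carrier := {g | ∃ hg : g ∈ N, μ ⟨g, hg⟩ = 1}
        one_mem' := ⟨one_mem _, map_one μ⟩
        mul_mem' := by
          rintro a b ⟨ha, ha'⟩ ⟨hb, hb'⟩
          exact ⟨mul_mem ha hb, by
            rw [show (⟨a * b, mul_mem ha hb⟩ : N) = ⟨a, ha⟩ * ⟨b, hb⟩ from rfl, map_mul, ha', hb',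
              one_mul]⟩
        inv_mem' := by
          rintro a ⟨ha, ha'⟩
          exact ⟨inv_mem ha, by
            rw [show (⟨a⁻¹, inv_mem ha⟩ : N) = ⟨a, ha⟩⁻¹ from rfl, map_inv, ha', inv_one]⟩ }
    have hle : ⁅N, P'⁆ ≤ K := commutator_le.2 fun a ha b hb => by
      have hm : ⁅a, b⁆ ∈ N := hcN (commutator_mem_commutator ha hb)
      refine ⟨hm, ?_⟩
      have e : (⟨⁅a, b⁆, hm⟩ : N) = ⟨a, ha⟩ * MulAut.conjNormal b ⟨a, ha⟩⁻¹ := by
        apply Subtype.ext
        simp only [Subgroup.coe_mul, MulAut.conjNormal_apply, commutatorElement_def,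
          Subgroup.coe_inv]
        group
      show μ (⟨⁅a, b⁆, hm⟩ : N) = 1
      rw [e, map_mul, hμ ⟨b, hP'H hb⟩ hb, map_inv, mul_inv_cancel]
    refine MonoidHom.ext fun a => ?_
    obtain ⟨_, ha⟩ := hle (hc.symm ▸ a.2 : (a : G) ∈ ⁅N, P'⁆)
    exact ha

/-- In a solvable group no three primes dividing degrees are pairwise non-adjacent. -/
theorem no_triple : ∀ (n : ℕ) {G : Type u} [Group G] [Finite G] (x y z : ℕ), Nat.card G ≤ n →
    Group.IsSolvable G → x.Prime → y.Prime → z.Prime → x ≠ y → x ≠ z → y ≠ z →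
    (∀ χ : Cfsg.IrrCharacter G, ¬ x * y ∣ Cfsg.charDegree (χ : G → ℂ)) →
    (∀ χ : Cfsg.IrrCharacter G, ¬ x * z ∣ Cfsg.charDegree (χ : G → ℂ)) →
    (∀ χ : Cfsg.IrrCharacter G, ¬ y * z ∣ Cfsg.charDegree (χ : G → ℂ)) →
    (∃ χ : Cfsg.IrrCharacter G, x ∣ Cfsg.charDegree (χ : G → ℂ)) →
    (∃ χ : Cfsg.IrrCharacter G, y ∣ Cfsg.charDegree (χ : G → ℂ)) →
    (∃ χ : Cfsg.IrrCharacter G, z ∣ Cfsg.charDegree (χ : G → ℂ)) → False := by
  intro n
  induction n with
  | zero =>
    intro G _ _ x y z hn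
    have := Nat.card_pos (α := G)
    omega
  | succ n ih =>
  intro G _ _ x y z hn hsolv hx hy hz hxy hxz hyz hnxy hnxz hnyz hex hey hez
  classical
  haveI := hsolv
  rcases subsingleton_or_nontrivial G with hG | hG
  · obtain ⟨χ, hχ⟩ := hex
    haveI := Fact.mk hx
    refine not_dvd_degree_of_sylow (⊥ : Subgroup G) (fun a _ b _ => Subsingleton.elim _ _) ?_ χ hχ
    rw [Subgroup.index_bot, Nat.card_unique]
    exact hx.not_dvd_one
  obtain ⟨N, hNn, hN, hmin⟩ := Cores.MinNormal.exists_minimal (G := G)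
  haveI := hNn
  have hlt : Nat.card (G ⧸ N) ≤ n := by
    have h2 : 1 < Nat.card N := N.one_lt_card_iff_ne_bot.2 hN
    have h3 : Nat.card (G ⧸ N) < Nat.card G := by
      rw [N.card_eq_card_quotient_mul_card_subgroup]
      exact lt_mul_of_one_lt_right Nat.card_pos h2
    omega
  have hsurj := QuotientGroup.mk'_surjective N
  have hinfl : ∀ {d : ℕ}, (∀ χ : Cfsg.IrrCharacter G, ¬ d ∣ Cfsg.charDegree (χ : G → ℂ)) →
      ∀ φ : Cfsg.IrrCharacter (G ⧸ N), ¬ d ∣ Cfsg.charDegree (φ : G ⧸ N → ℂ) := fun h φ => by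
    have h' := h ⟨_, isIrrCharacter_comp (QuotientGroup.mk' N) hsurj φ.2⟩
    simpa [Cfsg.charDegree] using h'
  have swap : ∀ {a b : ℕ}, (∀ χ : Cfsg.IrrCharacter G, ¬ a * b ∣ Cfsg.charDegree (χ : G → ℂ)) →
      ∀ χ : Cfsg.IrrCharacter G, ¬ b * a ∣ Cfsg.charDegree (χ : G → ℂ) := fun h χ => by
    rw [mul_comm]; exact h χ
  by_cases hqx : ∀ φ : Cfsg.IrrCharacter (G ⧸ N), ¬ x ∣ Cfsg.charDegree (φ : G ⧸ N → ℂ)
  · exact case_of hx hy hz hxy hxz hyz hnxy hnxz hnyz hex hey hez N hN hmin hqx
  by_cases hqy : ∀ φ : Cfsg.IrrCharacter (G ⧸ N), ¬ y ∣ Cfsg.charDegree (φ : G ⧸ N → ℂ)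
  · exact case_of hy hx hz hxy.symm hyz hxz (swap hnxy) hnyz hnxz hey hex hez N hN hmin hqy
  by_cases hqz : ∀ φ : Cfsg.IrrCharacter (G ⧸ N), ¬ z ∣ Cfsg.charDegree (φ : G ⧸ N → ℂ)
  · exact case_of hz hx hy hxz.symm hyz.symm hxy (swap hnxz) (swap hnyz) hnxy hez hex hey N hN
      hmin hqz
  push Not at hqx hqy hqz
  exact ih x y z hlt (Group.isSolvable_of_surjective hsurj) hx hy hz hxy hxz hyz
    (hinfl hnxy) (hinfl hnxz) (hinfl hnyz) hqx hqy hqz

end Cfsg.Agent.Lib.Palfy68
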