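import Cfsg.Agent.Lib.Palfy68.Dual

/-!
# The case of a non-normal abelian Sylow subgroup modulo a minimal normal subgroup
-/

set_option autoImplicit false
set_option linter.unusedSectionVars false

namespace Cfsg.Agent.Lib.Palfy68

open Subgroup
open Cfsg.Agent.Lib.Characters.Basic Cfsg.Agent.Lib.Clifford.Basic

universe u

variable {G : Type u} [Group G] [Finite G] [Group.IsSolvable G]

/-- A normal Sylow subgroup of a complement centralising `N` gives a normal abelian Sylow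
subgroup of the group. -/
theorem absent_of_centralising {s w : ℕ} [Fact s.Prime] [Fact w.Prime] (N H : Subgroup G)
    [N.Normal] (hNc : ∀ a ∈ N, ∀ b ∈ N, a * b = b * a) (hNs : IsPGroup s N) (hsup : N ⊔ H = ⊤)
    (hinf : N ⊓ H = ⊥) (P : Sylow w H) (hPn : (P : Subgroup H).Normal)
    (hPc : ∀ a ∈ (P : Subgroup H), ∀ b ∈ (P : Subgroup H), a * b = b * a)
    (hPN : ∀ p ∈ (P : Subgroup H), (p : G) ∈ centralizer (N : Set G))
    (χ : Cfsg.IrrCharacter G) : ¬ w ∣ Cfsg.charDegree (χ : G → ℂ) := by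
  set P' := (P : Subgroup H).map H.subtype with hP'
  haveI hP'n : P'.Normal := by
    refine normalizer_eq_top_iff.1 (eq_top_iff.2 ?_)
    rw [← hsup]
    refine sup_le (fun n hn => mem_normalizer_iff.2 fun a => ?_) fun h hh => ?_
    · have key : ∀ (m : G), m ∈ N → ∀ a ∈ P', m * a * m⁻¹ = a := by
        rintro m hm _ ⟨p, hp, rfl⟩
        have := mem_centralizer_iff.1 (hPN p hp) m hm
        show m * (p : G) * m⁻¹ = (p : G)
        rw [this, mul_inv_cancel_right]
      refine ⟨fun ha => by rw [key n hn a ha]; exact ha, fun ha => ?_⟩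
      have := key n⁻¹ (inv_mem hn) _ ha
      have e : a = n * a * n⁻¹ := by
        conv_lhs => rw [show a = n⁻¹ * (n * a * n⁻¹) * n⁻¹⁻¹ by group, this]
      rw [e]; exact ha
    · exact le_normalizer_map H.subtype
        (mem_map_of_mem H.subtype (show (⟨h, hh⟩ : H) ∈ normalizer ((P : Subgroup H) : Set H) by
          rw [normalizer_eq_top]; trivial))
  have hP'c : ∀ a ∈ P', ∀ b ∈ P', a * b = b * a := by
    rintro _ ⟨a, ha, rfl⟩ _ ⟨b, hb, rfl⟩
    exact congrArg Subtype.val (hPc a ha b hb)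
  have hHidx : H.index = Nat.card N := by
    haveI : N.Normal := inferInstance
    have hc : IsComplement' N H := isComplement'_of_disjoint_and_mul_eq_univ (disjoint_iff.2 hinf)
      (by rw [← Subgroup.normal_mul, hsup, coe_top])
    exact hc.index_eq_card
  by_cases hsw : s = w
  · subst hsw
    refine not_dvd_degree_of_sylow (y := s) (N ⊔ P') ?_ ?_ χ
    · have hle : N ⊔ P' ≤ centralizer ((N ⊔ P' : Subgroup G) : Set G) := by
        refine sup_le ?_ ?_ <;> rw [Subgroup.le_centralizer_iff] <;> refine sup_le ?_ ?_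
        · exact fun a ha => mem_centralizer_iff.2 fun b hb => hNc b hb a ha
        · rintro _ ⟨p, hp, rfl⟩; exact hPN p hp
        · exact fun n hn => mem_centralizer_iff.2 fun a ⟨p, hp, e⟩ =>
            e ▸ (mem_centralizer_iff.1 (hPN p hp) n hn).symm
        · exact fun a ha => mem_centralizer_iff.2 fun b hb => hP'c b hb a ha
      exact fun a ha b hb => mem_centralizer_iff.1 (hle hb) a ha
    · intro hd
      rw [index_eq_relIndex hsup le_sup_left] at hd
      exact P.not_dvd_index (hd.trans (Subgroup.index_dvd_of_le fun p hp =>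
        mem_subgroupOf.2 (mem_sup_right (mem_map_of_mem H.subtype hp))))
  · refine not_dvd_degree_of_sylow (y := w) P' hP'c ?_ χ
    rw [hP', index_map_subtype, (Fact.out : w.Prime).dvd_mul, hHidx]
    rintro (h | h)
    · exact P.not_dvd_index h
    · obtain ⟨k, hk⟩ := IsPGroup.iff_card.1 hNs
      rw [hk] at h
      exact hsw ((Nat.prime_dvd_prime_iff_eq Fact.out Fact.out).1
        ((Fact.out : w.Prime).dvd_of_dvd_pow h)).symm

/-- The dual of a minimal normal subgroup with the two Sylow subgroups at each point. -/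
theorem dual_core {s y z : ℕ} [Fact s.Prime] [Fact y.Prime] [Fact z.Prime] (hyz : y ≠ z)
    (N H : Subgroup G) [N.Normal] (hN1 : N ≠ ⊥) (hNc : ∀ a b : N, a * b = b * a)
    (hNs : ∀ a : N, a ^ s = 1) (hmin : ∀ M : Subgroup G, M.Normal → M ≤ N → M = ⊥ ∨ M = N)
    (hfac : ∀ g : G, ∃ c ∈ centralizer (N : Set G), ∃ h ∈ H, c * h = g)
    (hy : OneSylow (dualActOn N H) y) (hz : OneSylow (dualActOn N H) z)
    (hdeg : ∀ χ : Cfsg.IrrCharacter H, ¬ y * z ∣ Cfsg.charDegree (χ : H → ℂ)) :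
    (∃ P : Sylow y H, (P : Subgroup H).Normal ∧
        ∀ p ∈ (P : Subgroup H), (p : G) ∈ centralizer (N : Set G)) ∨
      (∃ P : Sylow z H, (P : Subgroup H).Normal ∧
        ∀ p ∈ (P : Subgroup H), (p : G) ∈ centralizer (N : Set G)) := by
  haveI := finite_hom N
  haveI : Nontrivial (↥N →* ℂˣ) := by
    obtain ⟨a, ha, ha1⟩ := exists_mem_ne hN1
    obtain ⟨μ, hμ⟩ := exists_hom_ne_one hNc (a := ⟨a, ha⟩)
      (fun e => ha1 (congrArg Subtype.val e))
    exact ⟨μ, 1, fun e => hμ (by rw [e]; rfl)⟩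
  have hVs : ∀ μ : ↥N →* ℂˣ, μ ^ s = 1 := fun μ => MonoidHom.ext fun a => by
    rw [MonoidHom.pow_apply, ← map_pow, hNs, map_one]; rfl
  rcases core_image hVs (dualActOn N H) (dual_irred N H hNc hmin hfac) hyz hy hz hdeg with h | h
  · obtain ⟨P, hP, hk⟩ := h
    exact Or.inl ⟨P, hP, fun p hp => ker_dual N H hNc (hk hp)⟩
  · obtain ⟨P, hP, hk⟩ := h
    exact Or.inr ⟨P, hP, fun p hp => ker_dual N H hNc (hk hp)⟩

/-- Type one: `G = N H` and `H` has a normal Sylow `x`-subgroup fixing no point of `N`. -/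
theorem type_one {s x y z : ℕ} [Fact s.Prime] [Fact x.Prime] [Fact y.Prime] [Fact z.Prime]
    (hxy : x ≠ y) (hxz : x ≠ z) (hyz : y ≠ z)
    (hnxy : ∀ χ : Cfsg.IrrCharacter G, ¬ x * y ∣ Cfsg.charDegree (χ : G → ℂ))
    (hnxz : ∀ χ : Cfsg.IrrCharacter G, ¬ x * z ∣ Cfsg.charDegree (χ : G → ℂ))
    (hnyz : ∀ χ : Cfsg.IrrCharacter G, ¬ y * z ∣ Cfsg.charDegree (χ : G → ℂ))
    (hey : ∃ χ : Cfsg.IrrCharacter G, y ∣ Cfsg.charDegree (χ : G → ℂ))
    (hez : ∃ χ : Cfsg.IrrCharacter G, z ∣ Cfsg.charDegree (χ : G → ℂ))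
    (N H : Subgroup G) [N.Normal] (hN1 : N ≠ ⊥) (hNc : ∀ a b : N, a * b = b * a)
    (hNs : ∀ a : N, a ^ s = 1) (hmin : ∀ M : Subgroup G, M.Normal → M ≤ N → M = ⊥ ∨ M = N)
    (hsup : N ⊔ H = ⊤) (hinf : N ⊓ H = ⊥)
    (X : Subgroup H) (hXn : X.Normal) (hXx : IsPGroup x X)
    (hXfpf : ∀ μ : ↥N →* ℂˣ, (∀ t ∈ X, ∀ n : N, μ (MulAut.conjNormal (t : G) n) = μ n) → μ = 1) :
    False := by
  classical
  haveI := Fintype.ofFinite N
  have hNle : N ≤ centralizer (N : Set G) := fun a ha => mem_centralizer_iff.2 fun b hb =>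
    congrArg Subtype.val (hNc ⟨b, hb⟩ ⟨a, ha⟩)
  have hfac : ∀ g : G, ∃ c ∈ centralizer (N : Set G), ∃ h ∈ H, c * h = g := fun g => by
    obtain ⟨n, hn, h, hh, e⟩ := exists_mul_of_compl hsup g
    exact ⟨n, hNle hn, h, hh, e⟩
  -- the stabilisers
  have hstab : ∀ (μ : ↥N →* ℂˣ), μ ≠ 1 → ∀ {w : ℕ} [Fact w.Prime], x ≠ w →
      (∀ χ : Cfsg.IrrCharacter G, ¬ x * w ∣ Cfsg.charDegree (χ : G → ℂ)) →
      ∃ P : Sylow w H, (P : Subgroup H) ≤ stab (dualActOn N H) μ ∧
        stab (dualActOn N H) μ ≤ normalizer ((P : Subgroup H) : Set H) ∧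
        ∀ a ∈ (P : Subgroup H), ∀ b ∈ (P : Subgroup H), a * b = b * a := by
    intro μ hμ w _ hxw hno
    set φ := RelDegrees87.Basic.lin N μ with hφ
    set T := inertia N (φ : N → ℂ) with hT
    have hNT : N ≤ T := le_inertia N (isClassFunction_irr φ)
    obtain ⟨ν, hν⟩ := exists_lin_ext N H hsup hinf μ T hNT fun t ht n => by
      rw [hT, hφ, RelDegrees87.Basic.coe_lin, RelDegrees87.Basic.inertia_L] at ht
      exact DFunLike.congr_fun ht n
    have hext : ∃ η : Cfsg.IrrCharacter T, ∀ n : N,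
        (η : T → ℂ) ⟨n, hNT n.2⟩ = (φ : N → ℂ) n :=
      ⟨Characters.Linear.linChar ν, fun n => by
        rw [Characters.Linear.linChar_apply, hν n]; rfl⟩
    have hst : stab (dualActOn N H) μ = T.subgroupOf H := stab_eq N H μ
    have hx : x ∣ (T.subgroupOf H).index * Cfsg.charDegree (φ : N → ℂ) := by
      refine Dvd.dvd.mul_right ?_ _
      by_contra hnd
      haveI := hXn
      apply hμ
      refine hXfpf μ fun t ht => ?_
      rw [← hst] at hnd
      exact (mem_stab_iff N H μ t).1 (le_of_not_dvd_index hXx hnd ht)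
    obtain ⟨-, P, h1, h2, h3⟩ := sylow_side N H hsup hinf φ T hT hNT hext hxw hno hx
    exact ⟨P, hst ▸ h1, hst ▸ h2, h3⟩
  have hy : OneSylow (dualActOn N H) y := fun μ hμ => by
    obtain ⟨P, h1, h2, -⟩ := hstab μ hμ hxy hnxy
    exact ⟨P, h1, h2⟩
  have hz : OneSylow (dualActOn N H) z := fun μ hμ => by
    obtain ⟨P, h1, h2, -⟩ := hstab μ hμ hxz hnxz
    exact ⟨P, h1, h2⟩
  have hc : IsComplement' H N := (isComplement'_of_disjoint_and_mul_eq_univ (disjoint_iff.2 hinf)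
      (by rw [← Subgroup.normal_mul, hsup, coe_top]) : IsComplement' N H).symm
  have hdeg : ∀ χ : Cfsg.IrrCharacter H, ¬ y * z ∣ Cfsg.charDegree (χ : H → ℂ) := by
    intro θ hθ
    let π : G →* H := hc.QuotientMulEquiv.toMonoidHom.comp (QuotientGroup.mk' N)
    have hπ : Function.Surjective π :=
      hc.QuotientMulEquiv.surjective.comp (QuotientGroup.mk'_surjective N)
    refine hnyz ⟨(θ : H → ℂ) ∘ π, isIrrCharacter_comp π hπ θ.2⟩ ?_
    rwa [BlocksChars5.Basic.charDegree_congr (f := (θ : H → ℂ) ∘ π) (f' := (θ : H → ℂ))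
      (by rw [Function.comp_apply, map_one])]
  have hNp : IsPGroup s N := fun a => ⟨1, by rw [pow_one]; exact hNs a⟩
  have hNc' : ∀ a ∈ N, ∀ b ∈ N, a * b = b * a := fun a ha b hb =>
    congrArg Subtype.val (hNc ⟨a, ha⟩ ⟨b, hb⟩)
  obtain ⟨a, ha, ha1⟩ := exists_mem_ne hN1
  obtain ⟨μ, hμ⟩ := exists_hom_ne_one hNc (a := ⟨a, ha⟩) (fun e => ha1 (congrArg Subtype.val e))
  have hμ1 : μ ≠ 1 := fun e => hμ (by rw [e]; rfl)
  have hlast : ∀ {w : ℕ} [Fact w.Prime], x ≠ w →
      (∀ χ : Cfsg.IrrCharacter G, ¬ x * w ∣ Cfsg.charDegree (χ : G → ℂ)) →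
      (∃ χ : Cfsg.IrrCharacter G, w ∣ Cfsg.charDegree (χ : G → ℂ)) →
      (∃ P : Sylow w H, (P : Subgroup H).Normal ∧
        ∀ p ∈ (P : Subgroup H), (p : G) ∈ centralizer (N : Set G)) → False := by
    intro w _ hxw hno hex hP
    obtain ⟨P, hPn, hPN⟩ := hP
    obtain ⟨Q, -, -, hQc⟩ := hstab μ hμ1 hxw hno
    haveI := hPn
    haveI := Sylow.unique_of_normal P hPn
    rw [Subsingleton.elim Q P] at hQc
    obtain ⟨χ, hχ⟩ := hex
    exact absent_of_centralising N H hNc' hNp hsup hinf P hPn hQc hPN χ hχ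
  rcases dual_core hyz N H hN1 hNc hNs hmin hfac hy hz hdeg with h | h
  · exact hlast hxy hnxy hey h
  · exact hlast hxz hnxz hez h

end Cfsg.Agent.Lib.Palfy68
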