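import Cfsg.Agent.Lib.Palfy68.TypeOne
import Cfsg.Agent.Lib.Palfy68.Count
import Cfsg.Agent.Lib.Palfy68.Lies
import Cfsg.Agent.Lib.Coprime.Commutator

/-!
# The case of a normal non-abelian Sylow subgroup with minimal normal derived subgroup
-/

set_option autoImplicit false
set_option linter.unusedSectionVars false

namespace Cfsg.Agent.Lib.Palfy68

open Subgroup
open scoped commutatorElement
open Cfsg.Agent.Lib.Characters.Basic Cfsg.Agent.Lib.Clifford.Basic

universe u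

variable {G : Type u} [Group G] [Finite G] [Group.IsSolvable G]

/-- The setting. -/
structure TwoHyp (x : ℕ) (N X H : Subgroup G) : Prop where
  normalX : X.Normal
  normalN : N.Normal
  pgroup : IsPGroup x X
  prime_idx : ¬ x ∣ Nat.card H
  sup : X ⊔ H = ⊤
  inf : X ⊓ H = ⊥
  le : N ≤ X
  central : ∀ n ∈ N, ∀ g ∈ X, g * n = n * g
  derived : ⁅X, X⁆ = N
  ne : N ≠ ⊥
  exp : ∀ n : N, n ^ x = 1
  min : ∀ M : Subgroup G, M.Normal → M ≤ N → M = ⊥ ∨ M = N

namespace TwoHyp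

variable {x : ℕ} [Fact x.Prime] {N X H : Subgroup G}

theorem commN (h : TwoHyp x N X H) (a b : N) : a * b = b * a :=
  Subtype.ext (h.central b b.2 a (h.le a.2))

theorem coprime (h : TwoHyp x N X H) : (Nat.card H).Coprime (Nat.card X) := by
  obtain ⟨k, hk⟩ := IsPGroup.iff_card.1 h.pgroup
  rw [hk]
  exact Nat.Coprime.pow_right k ((Nat.Prime.coprime_iff_not_dvd Fact.out).2 h.prime_idx).symm

theorem index_eq (h : TwoHyp x N X H) : X.index = Nat.card H := by
  haveI := h.normalX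
  have hc : IsComplement' X H := isComplement'_of_disjoint_and_mul_eq_univ (disjoint_iff.2 h.inf)
    (by rw [← Subgroup.normal_mul, h.sup, coe_top])
  exact hc.symm.index_eq_card

theorem mul_index (h : TwoHyp x N X H) : H.index = Nat.card X := by
  haveI := h.normalX
  have hc : IsComplement' X H := isComplement'_of_disjoint_and_mul_eq_univ (disjoint_iff.2 h.inf)
    (by rw [← Subgroup.normal_mul, h.sup, coe_top])
  exact hc.index_eq_card

/-- A character of `X` fixed exactly by the stabiliser of its character on `N`. -/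
theorem exists_good (h : TwoHyp x N X H) (μ : ↥N →* ℂˣ) :
    haveI := h.normalX; haveI := h.normalN
    ∃ φ : Cfsg.IrrCharacter X, Lies h.le φ μ ∧
      stab (dualActOn N H) μ = (inertia X (φ : X → ℂ)).subgroupOf H := by
  haveI := h.normalX; haveI := h.normalN
  classical
  haveI := Fintype.ofFinite N
  haveI := Fintype.ofFinite X
  set S := stab (dualActOn N H) μ with hS
  let toG : S →* G := H.subtype.comp S.subtype
  have hcop : (Nat.card X).Coprime (Nat.card S) :=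
    (h.coprime.coprime_dvd_left (Subgroup.card_subgroup_dvd_card S)).symm
  haveI : Group.IsSolvable S := inferInstance
  obtain ⟨φ, hinv, hmult⟩ := Glauberman.exists_inv_over ((MulAut.conjNormal (H := X)).comp toG)
    ((MulAut.conjNormal (H := N)).comp toG) (Subgroup.inclusion h.le) hcop
    (Subgroup.inclusion_injective h.le) (fun s n => rfl)
    (θ := RelDegrees87.Basic.lin N μ) (fun s n => by
      show ((μ (MulAut.conjNormal (toG s) n) : ℂˣ) : ℂ) = ((μ n : ℂˣ) : ℂ)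
      rw [(mem_stab_iff N H μ (s : H)).1 s.2 n |> fun e => show μ (MulAut.conjNormal (toG s) n) = μ n from e])
  have hL : Lies h.le φ μ := by
    refine lies_of_inner h.le h.central φ μ ?_
    intro h0
    apply hmult
    exact (Glauberman.mult_eq_iff _ _ _ 0).1 (h0.trans Nat.cast_zero.symm)
  refine ⟨φ, hL, le_antisymm (fun s hs => ?_) fun s hs => ?_⟩
  · show conjC X (s : G) φ = (φ : X → ℂ)
    funext a
    exact hinv ⟨s, hs⟩ a
  · refine (mem_stab_iff N H μ s).2 fun n => ?_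
    have h1 := congrFun (show conjC X (s : G) φ = (φ : X → ℂ) from hs) (Subgroup.inclusion h.le n)
    change (φ : X → ℂ) (Subgroup.inclusion h.le (MulAut.conjNormal (s : G) n)) = _ at h1
    rw [hL, hL] at h1
    exact Units.ext (mul_left_cancel₀ (apply_one_ne_zero φ) h1)

/-- `x` divides the degrees over a nontrivial character of `N`. -/
theorem dvd_degree (h : TwoHyp x N X H) {μ : ↥N →* ℂˣ} (hμ : μ ≠ 1)
    {φ : Cfsg.IrrCharacter X} (hφ : Lies h.le φ μ) : x ∣ Cfsg.charDegree (φ : X → ℂ) := by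
  haveI := h.normalN
  have hd := BlocksChars5.Basic.degree_dvd_card φ
  obtain ⟨k, hk⟩ := IsPGroup.iff_card.1 h.pgroup
  rw [hk] at hd
  obtain ⟨j, -, hj⟩ := (Nat.dvd_prime_pow (Fact.out : x.Prime)).1 hd
  rcases Nat.eq_zero_or_pos j with rfl | hj0
  · exact absurd (by rw [hj, pow_zero]) (lies_degree_ne_one h.le hφ h.derived hμ)
  · exact hj ▸ dvd_pow_self x hj0.ne'

/-- The stabiliser side over a character of `X`. -/
theorem side (h : TwoHyp x N X H) (φ : Cfsg.IrrCharacter X) {a w : ℕ} [Fact a.Prime]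
    [Fact w.Prime] (haw : a ≠ w)
    (hno : ∀ χ : Cfsg.IrrCharacter G, ¬ a * w ∣ Cfsg.charDegree (χ : G → ℂ))
    (ha : haveI := h.normalX
      a ∣ ((inertia X (φ : X → ℂ)).subgroupOf H).index * Cfsg.charDegree (φ : X → ℂ)) :
    haveI := h.normalX
    ¬ w ∣ ((inertia X (φ : X → ℂ)).subgroupOf H).index ∧
      ∃ P : Sylow w H, (P : Subgroup H) ≤ (inertia X (φ : X → ℂ)).subgroupOf H ∧
        (inertia X (φ : X → ℂ)).subgroupOf H ≤ normalizer ((P : Subgroup H) : Set H) ∧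
        ∀ a ∈ (P : Subgroup H), ∀ b ∈ (P : Subgroup H), a * b = b * a := by
  haveI := h.normalX
  haveI := Fintype.ofFinite X
  have hXT : X ≤ inertia X (φ : X → ℂ) := le_inertia X (isClassFunction_irr φ)
  refine sylow_side X H h.sup h.inf φ _ rfl hXT ?_ haw hno ha
  refine exists_ext_coprime X _ hXT φ (fun t ht => ht) ?_
  refine Nat.Coprime.coprime_dvd_left ?_ h.coprime
  rw [← h.index_eq]
  exact relIndex_dvd_index_of_normal X _

variable {y z : ℕ} [Fact y.Prime] [Fact z.Prime]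

/-- A normal Sylow subgroup of `H` centralising `X`. -/
theorem absent (h : TwoHyp x N X H) {w : ℕ} [Fact w.Prime] (hxw : x ≠ w) (P : Sylow w H)
    (hPn : (P : Subgroup H).Normal)
    (hPc : ∀ a ∈ (P : Subgroup H), ∀ b ∈ (P : Subgroup H), a * b = b * a)
    (hPX : ∀ p ∈ (P : Subgroup H), (p : G) ∈ centralizer (X : Set G))
    (χ : Cfsg.IrrCharacter G) : ¬ w ∣ Cfsg.charDegree (χ : G → ℂ) := by
  haveI : ((P : Subgroup H).map H.subtype).Normal := by
    refine normalizer_eq_top_iff.1 (eq_top_iff.2 ?_)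
    rw [← h.sup]
    refine sup_le (fun n hn => mem_normalizer_iff.2 fun a => ?_) fun g hg => ?_
    · have key : ∀ (m : G), m ∈ X → ∀ a ∈ (P : Subgroup H).map H.subtype, m * a * m⁻¹ = a := by
        rintro m hm _ ⟨p, hp, rfl⟩
        have := mem_centralizer_iff.1 (hPX p hp) m hm
        show m * (p : G) * m⁻¹ = (p : G)
        rw [this, mul_inv_cancel_right]
      refine ⟨fun ha => by rw [key n hn a ha]; exact ha, fun ha => ?_⟩
      have := key n⁻¹ (inv_mem hn) _ ha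
      have e : a = n * a * n⁻¹ := by
        conv_lhs => rw [show a = n⁻¹ * (n * a * n⁻¹) * n⁻¹⁻¹ by group, this]
      rw [e]; exact ha
    · exact le_normalizer_map H.subtype
        (mem_map_of_mem H.subtype (show (⟨g, hg⟩ : H) ∈ normalizer ((P : Subgroup H) : Set H) by
          rw [normalizer_eq_top]; trivial))
  refine not_dvd_degree_of_sylow (y := w) ((P : Subgroup H).map H.subtype) ?_ ?_ χ
  · rintro _ ⟨a, ha, rfl⟩ _ ⟨b, hb, rfl⟩
    exact congrArg Subtype.val (hPc a ha b hb)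
  · rw [index_map_subtype, (Fact.out : w.Prime).dvd_mul, h.mul_index]
    rintro (h' | h')
    · exact P.not_dvd_index h'
    · obtain ⟨k, hk⟩ := IsPGroup.iff_card.1 h.pgroup
      rw [hk] at h'
      exact hxw ((Nat.prime_dvd_prime_iff_eq Fact.out Fact.out).1
        ((Fact.out : w.Prime).dvd_of_dvd_pow h')).symm

/-- One side of type two: `y` has a normal Sylow subgroup centralising `N`. -/
theorem half (h : TwoHyp x N X H) (hxy : x ≠ y) (hxz : x ≠ z) (hyz : y ≠ z)
    (hnxy : ∀ χ : Cfsg.IrrCharacter G, ¬ x * y ∣ Cfsg.charDegree (χ : G → ℂ))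
    (hnxz : ∀ χ : Cfsg.IrrCharacter G, ¬ x * z ∣ Cfsg.charDegree (χ : G → ℂ))
    (hnyz : ∀ χ : Cfsg.IrrCharacter G, ¬ y * z ∣ Cfsg.charDegree (χ : G → ℂ))
    (hey : ∃ χ : Cfsg.IrrCharacter G, y ∣ Cfsg.charDegree (χ : G → ℂ))
    (hez : ∃ χ : Cfsg.IrrCharacter G, z ∣ Cfsg.charDegree (χ : G → ℂ))
    (P : Sylow y H) (hPn : (P : Subgroup H).Normal)
    (hPN : ∀ p ∈ (P : Subgroup H), (p : G) ∈ centralizer (N : Set G)) : False := by
  classical
  haveI := h.normalX; haveI := h.normalN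
  haveI := hPn
  haveI := Fintype.ofFinite X
  haveI := finite_hom X
  haveI := finite_hom N
  haveI := Sylow.unique_of_normal P hPn
  -- the normal Sylow subgroup is abelian
  obtain ⟨a₀, ha₀, ha₀1⟩ := exists_mem_ne h.ne
  obtain ⟨μ₀, hμ₀⟩ := exists_hom_ne_one h.commN (a := ⟨a₀, ha₀⟩)
    (fun e => ha₀1 (congrArg Subtype.val e))
  have hμ₀1 : μ₀ ≠ 1 := fun e => hμ₀ (by rw [e]; rfl)
  have hNone : ∀ {w : ℕ} [Fact w.Prime], x ≠ w →
      (∀ χ : Cfsg.IrrCharacter G, ¬ x * w ∣ Cfsg.charDegree (χ : G → ℂ)) →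
      ∀ μ : ↥N →* ℂˣ, μ ≠ 1 → ∃ Q : Sylow w H, (Q : Subgroup H) ≤ stab (dualActOn N H) μ ∧
        stab (dualActOn N H) μ ≤ normalizer ((Q : Subgroup H) : Set H) ∧
        ∀ a ∈ (Q : Subgroup H), ∀ b ∈ (Q : Subgroup H), a * b = b * a := by
    intro w _ hxw hno μ hμ
    obtain ⟨φ, hL, hst⟩ := h.exists_good μ
    obtain ⟨-, Q, h1, h2, h3⟩ := h.side φ hxw hno (Dvd.dvd.mul_left (h.dvd_degree hμ hL) _)
    exact ⟨Q, hst ▸ h1, hst ▸ h2, h3⟩
  have hPab : ∀ a ∈ (P : Subgroup H), ∀ b ∈ (P : Subgroup H), a * b = b * a := by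
    obtain ⟨Q, -, -, h3⟩ := hNone hxy hnxy μ₀ hμ₀1
    rwa [Subsingleton.elim Q P] at h3
  -- `C = C_X(P)`
  set P' := (P : Subgroup H).map H.subtype with hP'
  set C : Subgroup G := X ⊓ centralizer (P' : Set G) with hC
  have hP'X : P' ≤ normalizer (X : Set G) := fun g _ => by rw [normalizer_eq_top]; trivial
  have hcopP : (Nat.card P').Coprime (Nat.card X) := by
    refine h.coprime.coprime_dvd_left ?_
    exact Subgroup.card_dvd_of_le (map_subtype_le _)
  have hsupC : ⁅X, P'⁆ ⊔ C = X :=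
    Coprime.commutator_sup_centralizer hP'X hcopP (Or.inl inferInstance)
  have hNC : N ≤ C := le_inf h.le fun n hn => mem_centralizer_iff.2 fun g hg => by
    obtain ⟨p, hp, rfl⟩ := hg
    exact (mem_centralizer_iff.1 (hPN p hp) n hn).symm
  have hCX : C ≤ X := inf_le_left
  have hcommle : ⁅X, P'⁆ ≤ X := Coprime.commutator_le_of_le_normalizer hP'X
  have hCne : C ≠ X := by
    intro hCeq
    obtain ⟨χ, hχ⟩ := hey
    refine h.absent hxy P hPn hPab (fun p hp => mem_centralizer_iff.2 fun g hg => ?_) χ hχ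
    have hgC : g ∈ C := hCeq.symm ▸ (hg : g ∈ X)
    exact (mem_centralizer_iff.1 hgC.2 _ (mem_map_of_mem H.subtype hp)).symm
  -- three subgroups
  have hCcomm : ∀ a ∈ ⁅X, P'⁆, ∀ c ∈ C, a * c = c * a := by
    intro a ha c hc
    have hle : ⁅X, P'⁆ ≤ centralizer ({c} : Set G) := commutator_le.2 fun g hg t ht => by
      refine mem_centralizer_singleton_iff.2 ?_
      have hn : ⁅g, c⁆ ∈ N := h.derived ▸ commutator_mem_commutator hg (hCX hc)
      have htc : t * c = c * t := mem_centralizer_iff.1 hc.2 t ht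
      have htn : t * ⁅g, c⁆ = ⁅g, c⁆ * t := mem_centralizer_iff.1 (hNC hn).2 t ht
      have hgX : g ∈ X := hg
      have hu : t * g⁻¹ * t⁻¹ ∈ X := h.normalX.conj_mem _ (inv_mem hgX) t
      have e1 : t * g⁻¹ * t⁻¹ * c = (⁅g, c⁆)⁻¹ * c * (t * g⁻¹ * t⁻¹) := by
        have hgn : g⁻¹ * ⁅g, c⁆ = ⁅g, c⁆ * g⁻¹ := h.central _ hn _ (inv_mem hgX)
        have h1 : g⁻¹ * c = (⁅g, c⁆)⁻¹ * c * g⁻¹ := by
          have h3 : (g⁻¹ * ⁅g, c⁆ * g)⁻¹ = (⁅g, c⁆)⁻¹ := by rw [hgn]; group
          rw [← h3]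
          simp only [commutatorElement_def]; group
        have h2 : t * (⁅g, c⁆)⁻¹ = (⁅g, c⁆)⁻¹ * t := by
          have := (Commute.inv_right (show Commute t ⁅g, c⁆ from htn)).eq
          exact this
        calc t * g⁻¹ * t⁻¹ * c = t * g⁻¹ * (t⁻¹ * c) := by group
          _ = t * g⁻¹ * (c * t⁻¹) := by
              rw [(show Commute t c from htc).inv_left.eq]
          _ = t * (g⁻¹ * c) * t⁻¹ := by group
          _ = t * (⁅g, c⁆)⁻¹ * (c * g⁻¹ * t⁻¹) := by rw [h1]; group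
          _ = (⁅g, c⁆)⁻¹ * (t * c) * g⁻¹ * t⁻¹ := by rw [h2]; group
          _ = (⁅g, c⁆)⁻¹ * c * (t * g⁻¹ * t⁻¹) := by rw [htc]; group
      calc ⁅g, t⁆ * c = g * (t * g⁻¹ * t⁻¹ * c) := by simp only [commutatorElement_def]; group
        _ = g * ((⁅g, c⁆)⁻¹ * c * (t * g⁻¹ * t⁻¹)) := by rw [e1]
        _ = (⁅g, c⁆)⁻¹ * (g * c) * (t * g⁻¹ * t⁻¹) := by
            rw [show g * ((⁅g, c⁆)⁻¹ * c * (t * g⁻¹ * t⁻¹)) =
              (g * (⁅g, c⁆)⁻¹) * c * (t * g⁻¹ * t⁻¹) by group, h.central _ (inv_mem hn) g hgX]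
            group
        _ = c * ⁅g, t⁆ := by simp only [commutatorElement_def]; group
    exact mem_centralizer_singleton_iff.1 (hle ha)
  -- an element outside `C`
  obtain ⟨a, ha, haC⟩ : ∃ a ∈ ⁅X, P'⁆, a ∉ C := by
    by_contra hcon
    push Not at hcon
    apply hCne
    refine le_antisymm hCX ?_
    conv_lhs => rw [← hsupC]
    exact sup_le hcon le_rfl
  have haX : a ∈ X := hcommle ha
  -- the linear characters trivial on `C`
  set ρ := dualActOn X H with hρ
  let U : Subgroup (↥X →* ℂˣ) :=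
    { carrier := {μ | ∀ c : X, (c : G) ∈ C → μ c = 1}
      one_mem' := fun c _ => rfl
      mul_mem' := fun {μ ν} hμ hν c hc => by
        show μ c * ν c = 1
        rw [hμ c hc, hν c hc, one_mul]
      inv_mem' := fun {μ} hμ c hc => by
        show (μ c)⁻¹ = 1
        rw [hμ c hc, inv_one] }
  have hU : ∀ g : H, ∀ μ ∈ U, ρ g μ ∈ U := by
    intro g μ hμ c hc
    show μ (MulAut.conjNormal ((g : G))⁻¹ c) = 1
    refine hμ _ ⟨(MulAut.conjNormal ((g : G))⁻¹ c).2, mem_centralizer_iff.2 fun q hq => ?_⟩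
    obtain ⟨p, hp, rfl⟩ := hq
    have h1 : g * p * g⁻¹ ∈ (P : Subgroup H) := hPn.conj_mem p hp g
    have h2 := mem_centralizer_iff.1 hc.2 _ (mem_map_of_mem H.subtype h1)
    simp only [MulAut.conjNormal_apply, Subgroup.coe_subtype, Subgroup.coe_mul,
      Subgroup.coe_inv, inv_inv] at h2 ⊢
    calc (p : G) * ((g : G)⁻¹ * c * g) = (g : G)⁻¹ * ((g * p * (g : G)⁻¹) * c) * g := by group
      _ = (g : G)⁻¹ * c * g * p := by rw [h2]; group
  have hUfix : ∀ μ ∈ U, (P : Subgroup H) ≤ stab ρ μ → μ = 1 := by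
    intro μ hμ hfix
    let Kμ : Subgroup G :=
      { carrier := {g | ∃ hg : g ∈ X, μ ⟨g, hg⟩ = 1}
        one_mem' := ⟨one_mem _, map_one μ⟩
        mul_mem' := by
          rintro a b ⟨ha, ha'⟩ ⟨hb, hb'⟩
          exact ⟨mul_mem ha hb, by
            rw [show (⟨a * b, mul_mem ha hb⟩ : X) = ⟨a, ha⟩ * ⟨b, hb⟩ from rfl, map_mul, ha', hb', one_mul]⟩
        inv_mem' := by
          rintro a ⟨ha, ha'⟩
          exact ⟨inv_mem ha, by
            rw [show (⟨a⁻¹, inv_mem ha⟩ : X) = ⟨a, ha⟩⁻¹ from rfl, map_inv, ha', inv_one]⟩ }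
    have hle : ⁅X, P'⁆ ⊔ C ≤ Kμ := sup_le (commutator_le.2 fun g hg t ht => by
      obtain ⟨p, hp, rfl⟩ := ht
      have hm : ⁅g, (p : G)⁆ ∈ X := hcommle (commutator_mem_commutator hg (mem_map_of_mem _ hp))
      refine ⟨hm, ?_⟩
      have e : (⟨⁅g, (p : G)⁆, hm⟩ : X) = ⟨g, hg⟩ * MulAut.conjNormal (p : G) ⟨g, hg⟩⁻¹ := by
        apply Subtype.ext
        simp only [Subgroup.coe_mul, MulAut.conjNormal_apply, commutatorElement_def, Subgroup.coe_inv]
        group
      show μ (⟨⁅g, (p : G)⁆, hm⟩ : X) = 1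
      rw [e, map_mul, (mem_stab_iff X H μ p).1 (hfix hp), map_inv, mul_inv_cancel])
      fun c hc => ⟨hCX hc, hμ ⟨c, hCX hc⟩ hc⟩
    refine MonoidHom.ext fun g => ?_
    obtain ⟨_, hg⟩ := hle (hsupC.symm ▸ g.2 : (g : G) ∈ ⁅X, P'⁆ ⊔ C)
    exact hg
  -- Sylow `z`-subgroups at the moved points
  have hlinx : ∀ μ : ↥X →* ℂˣ, ¬ (P : Subgroup H) ≤ stab ρ μ →
      ¬ z ∣ (stab ρ μ).index ∧ ∃ Q : Sylow z H, (Q : Subgroup H) ≤ stab ρ μ ∧
        stab ρ μ ≤ normalizer ((Q : Subgroup H) : Set H) := by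
    intro μ hμ
    have hst : stab ρ μ =
        (inertia X ((RelDegrees87.Basic.lin X μ : Cfsg.IrrCharacter X) : X → ℂ)).subgroupOf H :=
      stab_eq X H μ
    have hyd : y ∣ (stab ρ μ).index := by
      by_contra hn
      exact hμ (le_of_not_dvd_index P.2 hn)
    obtain ⟨h1, Q, h2, h3, -⟩ := h.side (RelDegrees87.Basic.lin X μ) hyz hnyz
      (Dvd.dvd.mul_right (hst ▸ hyd) _)
    rw [← hst] at h1 h2 h3
    exact ⟨h1, Q, h2, h3⟩
  -- every character over a nontrivial one is `P`-invariant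
  have hfixφ : ∀ μ : ↥N →* ℂˣ, μ ≠ 1 → ∀ φ : Cfsg.IrrCharacter X, Lies h.le φ μ →
      ∀ p ∈ (P : Subgroup H), ∀ g : X,
        (φ : X → ℂ) (MulAut.conjNormal (p : G) g) = (φ : X → ℂ) g := by
    intro μ hμ φ hL p hp g
    obtain ⟨hidx, -⟩ := h.side φ hxy hnxy (Dvd.dvd.mul_left (h.dvd_degree hμ hL) _)
    exact congrFun (show conjC X (p : G) φ = (φ : X → ℂ) from le_of_not_dvd_index P.2 hidx hp) g
  -- the commutator map
  have haG : ∀ g : X, ⁅a, (g : G)⁆ ∈ N := fun g => h.derived ▸ commutator_mem_commutator haX g.2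
  let ψ : X →* N := MonoidHom.mk' (fun g => ⟨⁅a, (g : G)⁆, haG g⟩) fun g k => by
    apply Subtype.ext
    show ⁅a, ((g : G) * k)⁆ = ⁅a, (g : G)⁆ * ⁅a, (k : G)⁆
    have h1 : (g : G) * ⁅a, (k : G)⁆ = ⁅a, (k : G)⁆ * g := h.central _ (haG k) _ g.2
    calc ⁅a, ((g : G) * k)⁆ = ⁅a, (g : G)⁆ * ((g : G) * ⁅a, (k : G)⁆) * (g : G)⁻¹ := by
          simp only [commutatorElement_def]; group
      _ = ⁅a, (g : G)⁆ * ⁅a, (k : G)⁆ := by rw [h1]; group
  -- separation from `C`
  haveI hC'n : (C.subgroupOf X).Normal := by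
    refine ⟨fun c hc g => ?_⟩
    have hn : ((g * c * g⁻¹ * c⁻¹ : X) : G) ∈ N := by
      rw [← h.derived]; exact commutator_mem_commutator g.2 c.2
    have : g * c * g⁻¹ = (g * c * g⁻¹ * c⁻¹) * c := by group
    rw [this]
    exact mul_mem (show g * c * g⁻¹ * c⁻¹ ∈ C.subgroupOf X from hNC hn) hc
  obtain ⟨u, huU, hua⟩ : ∃ u ∈ U, u ⟨a, haX⟩ ≠ 1 := by
    have hab : ∀ p q : X ⧸ C.subgroupOf X, p * q = q * p := by
      intro p q
      induction p using QuotientGroup.induction_on with | _ p => ?_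
      induction q using QuotientGroup.induction_on with | _ q => ?_
      rw [← QuotientGroup.mk_mul, ← QuotientGroup.mk_mul, QuotientGroup.eq]
      apply hNC
      rw [← h.derived]
      have e : (p * q)⁻¹ * (q * p) = ⁅q⁻¹, p⁻¹⁆ := by simp only [commutatorElement_def]; group
      rw [e]
      exact commutator_mem_commutator (inv_mem q.2) (inv_mem p.2)
    obtain ⟨ν, hν⟩ := exists_hom_ne_one hab (a := ((⟨a, haX⟩ : X) : X ⧸ C.subgroupOf X))
      (fun e => haC ((QuotientGroup.eq_one_iff (N := C.subgroupOf X) (⟨a, haX⟩ : X)).1 e))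
    exact ⟨ν.comp (QuotientGroup.mk' _), fun c hc => by
      show ν (c : X ⧸ C.subgroupOf X) = 1
      rw [(QuotientGroup.eq_one_iff c).2 hc, map_one], hν⟩
  have hu1 : u ≠ 1 := fun e => hua (by rw [e]; rfl)
  -- surjectivity
  have hsurj : ∀ μ : ↥N →* ℂˣ, μ.comp ψ = 1 → μ = 1 := by
    intro μ hμψ
    by_contra hμ
    obtain ⟨φ, hL⟩ := exists_lies h.le h.central μ
    have hne : (φ : X → ℂ) ⟨a, haX⟩ ≠ 0 := lies_apply_ne_zero h.le hL _ h.central fun g =>
      ⟨haG g, DFunLike.congr_fun hμψ g⟩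
    -- all linear characters are constant on the orbit of `a`
    apply haC
    have hcst : ∀ p ∈ (P : Subgroup H), ∀ ν : ↥X →* ℂˣ,
        ν (MulAut.conjNormal (p : G) ⟨a, haX⟩) = ν ⟨a, haX⟩ := by
      intro p hp ν
      let φ' := RelDegrees87.Basic.mulL X ν φ
      have hν1 : ∀ n : N, ν (Subgroup.inclusion h.le n) = 1 := by
        let Kν : Subgroup G :=
          { carrier := {g | ∃ hg : g ∈ X, ν ⟨g, hg⟩ = 1}
            one_mem' := ⟨one_mem _, map_one ν⟩
            mul_mem' := by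
              rintro a b ⟨ha, ha'⟩ ⟨hb, hb'⟩
              exact ⟨mul_mem ha hb, by
                rw [show (⟨a * b, mul_mem ha hb⟩ : X) = ⟨a, ha⟩ * ⟨b, hb⟩ from rfl, map_mul, ha', hb', one_mul]⟩
            inv_mem' := by
              rintro a ⟨ha, ha'⟩
              exact ⟨inv_mem ha, by
                rw [show (⟨a⁻¹, inv_mem ha⟩ : X) = ⟨a, ha⟩⁻¹ from rfl, map_inv, ha', inv_one]⟩ }
        have hle : ⁅X, X⁆ ≤ Kν := commutator_le.2 fun g hg k hk =>
          ⟨(h.le (h.derived ▸ commutator_mem_commutator hg hk : ⁅g, k⁆ ∈ N)), by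
            show ν ⁅(⟨g, hg⟩ : X), ⟨k, hk⟩⁆ = 1
            rw [map_commutatorElement, commutatorElement_eq_one_iff_mul_comm.2 (mul_comm _ _)]⟩
        intro n
        obtain ⟨_, hn⟩ := hle (h.derived.symm ▸ n.2 : (n : G) ∈ ⁅X, X⁆)
        exact hn
      have hL' : Lies h.le φ' μ := by
        intro n
        show (ν (Subgroup.inclusion h.le n) : ℂ) * (φ : X → ℂ) _ =
          (ν 1 : ℂ) * (φ : X → ℂ) 1 * _
        rw [hν1, map_one, hL n]; ring
      have h1 := hfixφ μ hμ φ hL p hp ⟨a, haX⟩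
      have h2 := hfixφ μ hμ φ' hL' p hp ⟨a, haX⟩
      change (ν _ : ℂ) * (φ : X → ℂ) _ = (ν _ : ℂ) * (φ : X → ℂ) _ at h2
      rw [h1] at h2
      exact Units.ext (mul_right_cancel₀ hne h2)
    have hmodN : ∀ q ∈ P', q * a * q⁻¹ * a⁻¹ ∈ N := by
      rintro _ ⟨p, hp, rfl⟩
      by_contra hn
      set b : X := MulAut.conjNormal (p : G) ⟨a, haX⟩ * (⟨a, haX⟩ : X)⁻¹ with hb
      have hab : ∀ p q : X ⧸ N.subgroupOf X, p * q = q * p := by
        intro p q
        induction p using QuotientGroup.induction_on with | _ p => ?_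
        induction q using QuotientGroup.induction_on with | _ q => ?_
        rw [← QuotientGroup.mk_mul, ← QuotientGroup.mk_mul, QuotientGroup.eq]
        have e : (p * q)⁻¹ * (q * p) = ⁅q⁻¹, p⁻¹⁆ := by simp only [commutatorElement_def]; group
        rw [e, mem_subgroupOf]
        exact h.derived ▸ commutator_mem_commutator (inv_mem q.2) (inv_mem p.2)
      obtain ⟨ν, hν⟩ := exists_hom_ne_one hab (a := ((b : X) : X ⧸ N.subgroupOf X))
        (fun e => hn (by
          have := (QuotientGroup.eq_one_iff b).1 e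
          simpa [hb, mem_subgroupOf] using this))
      apply hν
      have h1 := hcst p hp (ν.comp (QuotientGroup.mk' _))
      show (ν.comp (QuotientGroup.mk' _)) b = 1
      rw [hb, map_mul, map_inv, h1, mul_inv_cancel]
    obtain ⟨n, hn, hna⟩ := Coprime.exists_fixed_mul (A := P') (N := N) (k := a)
      (fun g _ => by rw [normalizer_eq_top]; trivial)
      (hcopP.coprime_dvd_right (Subgroup.card_dvd_of_le h.le)) (Or.inl inferInstance) hmodN
    have : a = n⁻¹ * (n * a) := by group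
    rw [this]
    exact mul_mem (inv_mem (hNC hn)) ⟨mul_mem (h.le hn) haX, hna⟩
  -- the dual of `N` is smaller than `U`
  have hlt : Nat.card (↥N →* ℂˣ) < Nat.card U := by
    let f : (↥N →* ℂˣ) → U := fun μ => ⟨μ.comp ψ, fun c hc => by
      show μ (ψ c) = 1
      have : ψ c = 1 := Subtype.ext (commutatorElement_eq_one_iff_mul_comm.2 (hCcomm a ha c hc))
      rw [this, map_one]⟩
    have hinj : Function.Injective f := by
      intro μ ν e
      have e' : μ.comp ψ = ν.comp ψ := congrArg Subtype.val e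
      have := hsurj (μ * ν⁻¹) (MonoidHom.ext fun g => by
        show μ (ψ g) * (ν (ψ g))⁻¹ = 1
        rw [show μ (ψ g) = ν (ψ g) from DFunLike.congr_fun e' g, mul_inv_cancel])
      exact mul_inv_eq_one.1 this
    haveI := Fintype.ofFinite (↥N →* ℂˣ)
    haveI := Fintype.ofFinite U
    rw [Nat.card_eq_fintype_card, Nat.card_eq_fintype_card]
    refine Fintype.card_lt_of_injective_of_notMem f hinj (b := ⟨u, huU⟩) ?_
    rintro ⟨μ, e⟩
    apply hua
    have e' : μ.comp ψ = u := congrArg Subtype.val e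
    rw [← e']
    show μ (ψ ⟨a, haX⟩) = 1
    have : ψ ⟨a, haX⟩ = 1 := Subtype.ext (commutatorElement_self a)
    rw [this, map_one]
  -- the number of Sylow `z`-subgroups
  obtain ⟨Z₀⟩ : Nonempty (Sylow z H) := inferInstance
  set n := Nat.card (Sylow z H) with hn
  have hnpos : 0 < n := Nat.card_pos
  have hn2 : 2 ≤ n := by
    by_contra hlt2
    haveI : Subsingleton (Sylow z H) := (Finite.card_le_one_iff_subsingleton).1 (by omega)
    have hZn : (Z₀ : Subgroup H).Normal := Z₀.normal_of_subsingleton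
    -- every linear character is fixed by one of the two
    have hcover : ∀ μ : ↥X →* ℂˣ, μ ∈ fixPts ρ (P : Subgroup H) ∨ μ ∈ fixPts ρ (Z₀ : Subgroup H) := by
      intro μ
      by_cases hμ : (P : Subgroup H) ≤ stab ρ μ
      · exact Or.inl hμ
      · obtain ⟨-, Q, hQ, -⟩ := hlinx μ hμ
        exact Or.inr (Subsingleton.elim Q Z₀ ▸ hQ)
    have huP : u ∉ fixPts ρ (P : Subgroup H) := fun hf => hu1 (hUfix u huU hf)
    have hZtop : ∀ μ : ↥X →* ℂˣ, μ ∈ fixPts ρ (Z₀ : Subgroup H) := by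
      intro μ
      rcases hcover μ with hμ | hμ
      · rcases hcover (u * μ) with h' | h'
        · exact absurd (by simpa [mul_assoc] using mul_mem h' (inv_mem hμ)) huP
        · have hu' : u ∈ fixPts ρ (Z₀ : Subgroup H) := (hcover u).resolve_left huP
          simpa using mul_mem (inv_mem hu') h'
      · exact hμ
    obtain ⟨χ, hχ⟩ := hez
    obtain ⟨Q, hQ, -, hQc⟩ := hNone hxz hnxz μ₀ hμ₀1
    rw [Subsingleton.elim Q Z₀] at hQc
    have hZN : ∀ p ∈ (Z₀ : Subgroup H), (p : G) ∈ centralizer (N : Set G) := by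
      intro p hp
      refine ker_dual N H h.commN (MonoidHom.mem_ker.2 (MulEquiv.ext fun μ => ?_))
      by_cases hμ : μ = 1
      · subst hμ; exact map_one _
      · obtain ⟨Q, hQ, -, -⟩ := hNone hxz hnxz μ hμ
        exact hQ (Subsingleton.elim Z₀ Q ▸ hp)
    refine h.absent hxz Z₀ hZn hQc (fun p hp => mem_centralizer_iff.2 fun g hg => ?_) χ hχ
    -- `Z₀` is trivial on `X / N` and on `N`
    obtain ⟨Zc, hZc⟩ : ∃ Zc, Zc = (Z₀ : Subgroup H).map H.subtype := ⟨_, rfl⟩
    have hmod : ∀ q ∈ Zc, q * g * q⁻¹ * g⁻¹ ∈ N := by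
      subst hZc
      rintro _ ⟨p, hp, rfl⟩
      by_contra hn
      set b : X := MulAut.conjNormal (p : G) ⟨g, hg⟩ * (⟨g, hg⟩ : X)⁻¹ with hb
      have hab : ∀ p q : X ⧸ N.subgroupOf X, p * q = q * p := by
        intro p q
        induction p using QuotientGroup.induction_on with | _ p => ?_
        induction q using QuotientGroup.induction_on with | _ q => ?_
        rw [← QuotientGroup.mk_mul, ← QuotientGroup.mk_mul, QuotientGroup.eq]
        have e : (p * q)⁻¹ * (q * p) = ⁅q⁻¹, p⁻¹⁆ := by simp only [commutatorElement_def]; group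
        rw [e, mem_subgroupOf]
        exact h.derived ▸ commutator_mem_commutator (inv_mem q.2) (inv_mem p.2)
      obtain ⟨ν, hν⟩ := exists_hom_ne_one hab (a := ((b : X) : X ⧸ N.subgroupOf X))
        (fun e => hn (by
          have := (QuotientGroup.eq_one_iff b).1 e
          simpa [hb, mem_subgroupOf] using this))
      apply hν
      have h1 := (mem_stab_iff X H (ν.comp (QuotientGroup.mk' _)) p).1 (hZtop _ hp) ⟨g, hg⟩
      show (ν.comp (QuotientGroup.mk' _)) b = 1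
      rw [hb, map_mul, map_inv, h1, mul_inv_cancel]
    have hcopZ : (Nat.card Zc).Coprime (Nat.card N) := by
      rw [hZc]
      exact (h.coprime.coprime_dvd_left (Subgroup.card_dvd_of_le (map_subtype_le _))).coprime_dvd_right
        (Subgroup.card_dvd_of_le h.le)
    obtain ⟨m, hm, hmg⟩ := Coprime.exists_fixed_mul (A := Zc) (N := N) (k := g)
      (fun g _ => by rw [normalizer_eq_top]; trivial) hcopZ (Or.inl inferInstance) hmod
    have hpm : (p : G) ∈ Zc := hZc ▸ mem_map_of_mem H.subtype hp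
    have h1 := mem_centralizer_iff.1 hmg _ hpm
    have h2 := mem_centralizer_iff.1 (hZN p hp) m hm
    have h3 : g = m⁻¹ * (m * g) := by group
    rw [h3]
    exact ((Commute.mul_right (Commute.inv_right (show Commute (p : G) m from h2.symm)) h1).eq).symm
  -- counting
  have hUone : ∀ μ ∈ U, μ ≠ 1 → ∃ Q : Sylow z H, (Q : Subgroup H) ≤ stab ρ μ ∧
      stab ρ μ ≤ normalizer ((Q : Subgroup H) : Set H) := fun μ hμ hμ1 =>
    (hlinx μ fun hf => hμ1 (hUfix μ hμ hf)).2
  have hcU := count_points ρ U hU hUone Z₀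
  have hcN := count_points (dualActOn N H) ⊤ (fun _ _ _ => mem_top _)
    (fun μ _ hμ => by obtain ⟨Q, h1, h2, -⟩ := hNone hxz hnxz μ hμ; exact ⟨Q, h1, h2⟩) Z₀
  rw [Subgroup.card_top] at hcN
  have hpow : ∀ {Y : Type u} [Group Y] [Finite Y], IsPGroup x Y → IsPGroup x (Y →* ℂˣ) := by
    intro Y _ _ hY μ
    obtain ⟨k, hk⟩ := IsPGroup.iff_card.1 hY
    refine ⟨k, MonoidHom.ext fun g => ?_⟩
    show μ g ^ x ^ k = 1
    rw [← map_pow, ← hk, pow_card_eq_one', map_one]
  obtain ⟨W, hW⟩ := IsPGroup.iff_card.1 ((hpow h.pgroup).to_subgroup U)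
  obtain ⟨w, hw⟩ := IsPGroup.iff_card.1 ((hpow h.pgroup).to_subgroup (U ⊓ fixPts ρ (Z₀ : Subgroup H)))
  have hNp : IsPGroup x N := h.pgroup.to_le h.le
  obtain ⟨B, hB⟩ := IsPGroup.iff_card.1 (hpow hNp)
  obtain ⟨b, hb⟩ := IsPGroup.iff_card.1
    ((hpow hNp).to_subgroup (⊤ ⊓ fixPts (dualActOn N H) (Z₀ : Subgroup H)))
  have hB1 : 1 ≤ B := by
    rcases Nat.eq_zero_or_pos B with rfl | hB1
    · rw [pow_zero] at hB
      haveI := (Nat.card_eq_one_iff_unique.1 hB).1
      exact absurd (Subsingleton.elim μ₀ 1) hμ₀1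
    · exact hB1
  rw [hB, hb] at hcN
  rw [hW, hw] at hcU
  refine exp_eq (Fact.out : x.Prime) hn2 hcN hcU hB1 ?_
  rw [hW, hB] at hlt
  exact (Nat.pow_lt_pow_iff_right (Fact.out : x.Prime).one_lt).1 hlt

/-- Type two is impossible. -/
theorem false_of (h : TwoHyp x N X H) (hxy : x ≠ y) (hxz : x ≠ z) (hyz : y ≠ z)
    (hnxy : ∀ χ : Cfsg.IrrCharacter G, ¬ x * y ∣ Cfsg.charDegree (χ : G → ℂ))
    (hnxz : ∀ χ : Cfsg.IrrCharacter G, ¬ x * z ∣ Cfsg.charDegree (χ : G → ℂ))
    (hnyz : ∀ χ : Cfsg.IrrCharacter G, ¬ y * z ∣ Cfsg.charDegree (χ : G → ℂ))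
    (hey : ∃ χ : Cfsg.IrrCharacter G, y ∣ Cfsg.charDegree (χ : G → ℂ))
    (hez : ∃ χ : Cfsg.IrrCharacter G, z ∣ Cfsg.charDegree (χ : G → ℂ)) : False := by
  haveI := h.normalX; haveI := h.normalN
  classical
  haveI := Fintype.ofFinite X
  have hone : ∀ {w : ℕ} [Fact w.Prime], x ≠ w →
      (∀ χ : Cfsg.IrrCharacter G, ¬ x * w ∣ Cfsg.charDegree (χ : G → ℂ)) →
      OneSylow (dualActOn N H) w := by
    intro w _ hxw hno μ hμ
    obtain ⟨φ, hL, hst⟩ := h.exists_good μ
    obtain ⟨-, Q, h1, h2, -⟩ := h.side φ hxw hno (Dvd.dvd.mul_left (h.dvd_degree hμ hL) _)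
    exact ⟨Q, hst ▸ h1, hst ▸ h2⟩
  have hfac : ∀ g : G, ∃ c ∈ centralizer (N : Set G), ∃ k ∈ H, c * k = g := fun g => by
    obtain ⟨n, hn, k, hk, e⟩ := exists_mul_of_compl h.sup g
    exact ⟨n, mem_centralizer_iff.2 fun m hm => (h.central m hm n hn).symm, k, hk, e⟩
  have hc : IsComplement' H X := (isComplement'_of_disjoint_and_mul_eq_univ (disjoint_iff.2 h.inf)
      (by rw [← Subgroup.normal_mul, h.sup, coe_top]) : IsComplement' X H).symm
  have hdeg : ∀ χ : Cfsg.IrrCharacter H, ¬ y * z ∣ Cfsg.charDegree (χ : H → ℂ) := by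
    intro θ hθ
    let π : G →* H := hc.QuotientMulEquiv.toMonoidHom.comp (QuotientGroup.mk' X)
    have hπ : Function.Surjective π :=
      hc.QuotientMulEquiv.surjective.comp (QuotientGroup.mk'_surjective X)
    refine hnyz ⟨(θ : H → ℂ) ∘ π, isIrrCharacter_comp π hπ θ.2⟩ ?_
    rwa [BlocksChars5.Basic.charDegree_congr (f := (θ : H → ℂ) ∘ π) (f' := (θ : H → ℂ))
      (by rw [Function.comp_apply, map_one])]
  rcases dual_core hyz N H h.ne h.commN h.exp h.min hfac (hone hxy hnxy) (hone hxz hnxz) hdeg with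
    ⟨P, hPn, hPN⟩ | ⟨P, hPn, hPN⟩
  · exact h.half hxy hxz hyz hnxy hnxz hnyz hey hez P hPn hPN
  · exact h.half hxz hxy hyz.symm hnxz hnxy (fun χ => by rw [mul_comm]; exact hnyz χ) hez hey P hPn hPN

end TwoHyp

end Cfsg.Agent.Lib.Palfy68
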